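import Mathlib
import Cfsg.Prelude.Def_Blocks
import Cfsg.Agent.Blocks.CentralProduct
import Cfsg.Agent.S0907
import Cfsg.Agent.S0968
import Cfsg.Agent.S0969
import Cfsg.Agent.Blocks.Deflate
import Cfsg.Agent.Blocks.Basic
import Cfsg.Agent.CharDeep.LinearChar
import Cfsg.Agent.H646.UCov
import Cfsg.Agent.S0973
import Cfsg.Agent.S0934
import Cfsg.Agent.S0908
import Cfsg.Prelude.Def_Characters
import Cfsg.Agent.Characters.Core
import Cfsg.Agent.Characters.Clifford
import Cfsg.Agent.Blocks.CliffordCentral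
import Cfsg.Agent.Blocks.Over
import Cfsg.Agent.CharDeep.CliffordCorr
import Cfsg.Agent.Characters.CCBasic
import Cfsg.Agent.Blocks.Fong
import Cfsg.Agent.S1489
import Cfsg.Agent.S0012
import Cfsg.Agent.S0029
import Cfsg.Prelude.Def_BrauerPairs
import Cfsg.Agent.H652.PairBasic
import Cfsg.Agent.H649.DefectPair
import Cfsg.Agent.S0964
set_option linter.all false

-- part: H700/CentralProd
section
/-!
# Blocks of `G = P C_G(P)` with defect group `P`: values on `p`-regular elements

If `θ ∈ B` has the `p`-group `P` in its kernel then the members of `B` are the `χ_η`, `η ∈ Irr(P)`,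
with `χ_η (u y) = η u * θ y` for `u ∈ P` and `y` `p`-regular.
-/

set_option autoImplicit false

namespace Cfsg.Agent.H700.CentralProd

open Cfsg Cfsg.Agent.Characters.Core Cfsg.Agent.Blocks.CentralProduct Cfsg.Agent.Blocks.LocalRing
open scoped ComplexConjugate

universe u

theorem main {G : Type u} [Group G] [Finite G] (p : ℕ) [Fact p.Prime] (M : Ideal Cfsg.AlgInt)
    (hM : Cfsg.IsPModular p M) (P : Subgroup G) (hP : IsPGroup p P)
    (hG : P ⊔ Subgroup.centralizer (P : Set G) = ⊤) (B : Set (Cfsg.IrrCharacter G))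
    (hB : Cfsg.IsPBlock M B) (hD : Cfsg.IsDefectGroup p M B P) {θ : IrrCharacter G} (hθ : θ ∈ B)
    (hθP : ∀ x ∈ P, (θ : G → ℂ) x = (θ : G → ℂ) 1) :
    (∀ η : P → ℂ, IsIrrCharacter P η → ∃ χ ∈ B, ∀ (u : P) (y : G), ¬ p ∣ orderOf y →
      (χ : G → ℂ) (u * y) = η u * (θ : G → ℂ) y) ∧
    (∀ χ ∈ B, ∃ η : P → ℂ, IsIrrCharacter P η ∧ ∀ (u : P) (y : G), ¬ p ∣ orderOf y →
      (χ : G → ℂ) (u * y) = η u * (θ : G → ℂ) y) ∧
    ∀ χ ∈ B, ∀ g : G, g ∉ prodSet p P → (χ : G → ℂ) g = 0 := by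
  classical
  have := Fintype.ofFinite G
  have := Fintype.ofFinite P
  have hfinI : Finite (IrrCharacter G) := finite_irr
  have := Fintype.ofFinite (IrrCharacter G)
  have hpp : p.Prime := Fact.out
  -- choose the factorisations
  have hex : ∀ χ : IrrCharacter G, ∃ (ξ : P → ℂ) (ψ : Subgroup.centralizer (P : Set G) → ℂ),
      IsIrrCharacter P ξ ∧ IsIrrCharacter (Subgroup.centralizer (P : Set G)) ψ ∧
        IsFactor P (χ : G → ℂ) ξ ψ := fun χ => exists_factor hG χ.2
  choose ξ ψ hξ hψ hf using hex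
  have hdeg : ∀ χ ∈ B, P.index.factorization p ≤ (charDegree (ψ χ)).factorization p :=
    fun χ hχ => S0968.factorization_le p hM P hD hχ (hξ χ) (hψ χ) (hf χ)
  have hidx0 : P.index ≠ 0 := Subgroup.index_ne_zero_of_finite
  -- injectivity
  have hinj : ∀ χ ∈ B, ∀ χ' ∈ B, ξ χ = ξ χ' → χ = χ' := by
    intro χ hχ χ' hχ' hEq
    by_contra hne
    have hne' : (χ : G → ℂ) ≠ (χ' : G → ℂ) := fun h => hne (Subtype.ext h)
    have h0 := classInner_irr_ne χ.2 χ'.2 hne'
    have hf1 : IsFactor P (χ : G → ℂ) (ξ χ') (ψ χ) := by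
      rw [← hEq]; exact hf χ
    rw [classInner_eq_regT hP hG χ.2 (hξ χ') (hψ χ) hf1 (hf χ') (hdeg χ hχ)] at h0
    have h1 := classInner_irr_self χ'.2
    rw [classInner_eq_regT hP hG χ'.2 (hξ χ') (hψ χ') (hf χ') (hf χ') (hdeg χ' hχ')] at h1
    have hT0 : regT p (χ : G → ℂ) (χ' : G → ℂ) (ξ χ') = 0 := by
      rcases mul_eq_zero.1 h0 with h | h
      · exfalso
        obtain ⟨n, hn0, hn⟩ := isIrr_apply_one (hψ χ)
        rw [charDegree_eq hn, div_eq_zero_iff] at h
        rcases h with h | h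
        · exact hn0.ne' (by exact_mod_cast h)
        · exact hidx0 (by exact_mod_cast h)
      · exact h
    have h2 := regT_congr hP hG hM χ.2 χ'.2 χ'.2 (hξ χ') (hψ χ') (hf χ')
      (S0968.sameBlock_of_mem hM hB hχ hχ')
    rw [hT0, zero_sub] at h2
    have h3 := memLocalIdeal_neg_iff.1 h2
    have h4 := memLocalIdeal_mul_left hM (memLocalRing_natDiv hM hidx0 (hdeg χ' hχ')) h3
    rw [h1] at h4
    exact not_memLocalIdeal_one hM h4
  have hP0 : (Nat.card P : ℂ) ≠ 0 := by
    have : Nat.card P ≠ 0 := Nat.card_pos.ne'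
    exact_mod_cast this
  have hregC : ∀ y : G, ¬ p ∣ orderOf y → y ∈ Subgroup.centralizer (P : Set G) :=
    fun y hy => mem_centralizer_of_regular hP hG hy
  -- the block sums
  have hsum : ∀ (η : P → ℂ), IsIrrCharacter P η → ∀ (y y' : G) (hy : ¬ p ∣ orderOf y)
      (hy' : ¬ p ∣ orderOf y'),
      η 1 * ∑ χ ∈ B.toFinset, (χ : G → ℂ) y * conj ((χ : G → ℂ) y') =
        Nat.card P * ∑ χ ∈ B.toFinset.filter (fun χ => ξ χ = η), ξ χ 1 *
          (ψ χ ⟨y, hregC y hy⟩ * conj (ψ χ ⟨y', hregC y' hy'⟩)) := by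
    intro η hη y y' hy hy'
    have hweak : ∀ u : P, u ≠ 1 →
        ∑ χ ∈ B.toFinset, (χ : G → ℂ) y * conj ((χ : G → ℂ) (u * y')) = 0 := by
      intro u hu
      have h2 : p ∣ orderOf ((u : G) * y') := by
        have hc : Commute (u : G) y' := by
          have := Subgroup.mem_centralizer_iff.1 (hregC y' hy') u u.2
          exact this
        obtain ⟨k, hk⟩ := (IsPGroup.iff_orderOf.1 hP) u
        have hk' : orderOf (u : G) = p ^ k := by rw [Subgroup.orderOf_coe, hk]
        have hk0 : k ≠ 0 := by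
          rintro rfl
          rw [pow_zero] at hk
          exact hu (orderOf_eq_one_iff.1 hk)
        have hcop : (orderOf (u : G)).Coprime (orderOf y') := by
          rw [hk']
          exact Nat.Coprime.pow_left k ((Nat.Prime.coprime_iff_not_dvd hpp).2 hy')
        rw [hc.orderOf_mul_eq_mul_orderOf_of_coprime hcop, hk']
        exact (dvd_pow_self p hk0).mul_right _
      have h3 := Cfsg.Agent.S0907.result p M hM B hB y ((u : G) * y') hy h2
      rw [finsum_mem_eq_toFinset_sum] at h3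
      exact h3
    have e0 : ∑ u : P, (∑ χ ∈ B.toFinset, (χ : G → ℂ) y * conj ((χ : G → ℂ) (u * y'))) * η u =
        η 1 * ∑ χ ∈ B.toFinset, (χ : G → ℂ) y * conj ((χ : G → ℂ) y') := by
      rw [Finset.sum_eq_single (1 : P) (fun u _ hu => by rw [hweak u hu, zero_mul])
        (fun h => absurd (Finset.mem_univ _) h), mul_comm]
      simp
    rw [← e0]
    have e1 : ∀ u : P, (∑ χ ∈ B.toFinset, (χ : G → ℂ) y * conj ((χ : G → ℂ) (u * y'))) * η u =
        ∑ χ ∈ B.toFinset, (ξ χ 1 * (ψ χ ⟨y, hregC y hy⟩ * conj (ψ χ ⟨y', hregC y' hy'⟩))) *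
          (η u * conj (ξ χ u)) := by
      intro u
      rw [Finset.sum_mul]
      refine Finset.sum_congr rfl fun χ _ => ?_
      have a1 := (hf χ).apply_coe ⟨y, hregC y hy⟩
      have a2 := hf χ u ⟨y', hregC y' hy'⟩
      simp only at a1 a2
      rw [a1, a2, map_mul]
      ring
    rw [Finset.sum_congr rfl fun u _ => e1 u, Finset.sum_comm, Finset.mul_sum,
      Finset.sum_filter]
    refine Finset.sum_congr rfl fun χ hχ => ?_
    rw [← Finset.mul_sum]
    split_ifs with h
    · rw [h]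
      have e2 := classInner_irr_self hη
      unfold classInner at e2
      have e3 : ∑ u : P, η u * conj (η u) = Nat.card P := by
        field_simp at e2
        exact e2
      rw [e3]
      ring
    · have e2 := classInner_irr_ne hη (hξ χ) (fun h' => h h'.symm)
      unfold classInner at e2
      have e3 := (mul_eq_zero.1 e2).resolve_left (inv_ne_zero hP0)
      rw [e3, mul_zero]
  have hsum1 : ∀ χ ∈ B, ∀ (y y' : G) (hy : ¬ p ∣ orderOf y) (hy' : ¬ p ∣ orderOf y'),
      ∑ χ ∈ B.toFinset, (χ : G → ℂ) y * conj ((χ : G → ℂ) y') =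
        Nat.card P * (ψ χ ⟨y, hregC y hy⟩ * conj (ψ χ ⟨y', hregC y' hy'⟩)) := by
    intro χ hχ y y' hy hy'
    have h1 := hsum (ξ χ) (hξ χ) y y' hy hy'
    have h2 : B.toFinset.filter (fun χ' => ξ χ' = ξ χ) = {χ} := by
      ext χ'
      rw [Finset.mem_filter, Finset.mem_singleton, Set.mem_toFinset]
      constructor
      · rintro ⟨h3, h4⟩
        exact hinj χ' h3 χ hχ h4
      · rintro rfl
        exact ⟨hχ, rfl⟩
    rw [h2, Finset.sum_singleton] at h1
    have h3 := irr_apply_one_ne_zero (hξ χ)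
    have h4 : ξ χ 1 * ∑ χ ∈ B.toFinset, (χ : G → ℂ) y * conj ((χ : G → ℂ) y') =
        ξ χ 1 * (Nat.card P * (ψ χ ⟨y, hregC y hy⟩ * conj (ψ χ ⟨y', hregC y' hy'⟩))) := by
      rw [h1]; ring
    exact mul_left_cancel₀ h3 h4
  have h1reg : ¬ p ∣ orderOf (1 : G) := by
    rw [orderOf_one]
    exact hpp.one_lt.ne' ∘ Nat.dvd_one.1
  -- equality of the parts on the centralizer
  have hψeq : ∀ χ ∈ B, ∀ (y : G) (hy : ¬ p ∣ orderOf y),
      ψ χ ⟨y, hregC y hy⟩ = ψ θ ⟨y, hregC y hy⟩ := by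
    intro χ hχ
    have hcmp : ∀ (y y' : G) (hy : ¬ p ∣ orderOf y) (hy' : ¬ p ∣ orderOf y'),
        ψ χ ⟨y, hregC y hy⟩ * conj (ψ χ ⟨y', hregC y' hy'⟩) =
          ψ θ ⟨y, hregC y hy⟩ * conj (ψ θ ⟨y', hregC y' hy'⟩) := by
      intro y y' hy hy'
      have h1 := hsum1 χ hχ y y' hy hy'
      rw [hsum1 θ hθ y y' hy hy'] at h1
      exact (mul_left_cancel₀ hP0 h1).symm
    have h11 : ψ χ ⟨1, hregC 1 h1reg⟩ = ψ θ ⟨1, hregC 1 h1reg⟩ := by
      have h1 := hcmp 1 1 h1reg h1reg
      have e1 : (⟨1, hregC 1 h1reg⟩ : Subgroup.centralizer (P : Set G)) = 1 := rfl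
      rw [e1] at h1 ⊢
      obtain ⟨a, ha0, ha⟩ := isIrr_apply_one (hψ χ)
      obtain ⟨b, hb0, hb⟩ := isIrr_apply_one (hψ θ)
      rw [ha, hb, Complex.conj_natCast, Complex.conj_natCast] at h1
      rw [ha, hb]
      have h2 : a * a = b * b := by exact_mod_cast h1
      have h3 : a = b := Nat.mul_self_inj.1 h2
      rw [h3]
    intro y hy
    have h1 := hcmp y 1 hy h1reg
    rw [h11] at h1
    have h2 : conj (ψ θ ⟨1, hregC 1 h1reg⟩) ≠ 0 := by
      rw [map_ne_zero]
      exact irr_apply_one_ne_zero (hψ θ)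
    exact mul_right_cancel₀ h2 h1
  -- the trivial character
  have hker : ξ θ = 1 := by
    have h1 : ∀ u : P, ξ θ u = ξ θ 1 := by
      intro u
      have h2 := hθP u u.2
      rw [(hf θ).apply_left u, (hf θ).apply_one] at h2
      exact mul_right_cancel₀ (irr_apply_one_ne_zero (hψ θ)) h2
    obtain ⟨d, hd0, hd⟩ := isIrr_apply_one (hξ θ)
    have h3 := classInner_irr_self (hξ θ)
    unfold classInner at h3
    rw [Finset.sum_congr rfl (fun u _ => by rw [h1 u, hd, Complex.conj_natCast]), Finset.sum_const,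
      Finset.card_univ, ← Nat.card_eq_fintype_card, nsmul_eq_mul, ← mul_assoc,
      inv_mul_cancel₀ hP0, one_mul] at h3
    have h4 : d * d = 1 := by exact_mod_cast h3
    have h5 : d = 1 := Nat.eq_one_of_mul_eq_one_left h4
    funext u
    rw [h1 u, hd, h5]
    simp
  have hval : ∀ χ ∈ B, ∀ (u : P) (y : G), ¬ p ∣ orderOf y →
      (χ : G → ℂ) (u * y) = ξ χ u * (θ : G → ℂ) y := by
    intro χ hχ u y hy
    have h1 := hf χ u ⟨y, hregC y hy⟩
    have h2 := (hf θ).apply_coe ⟨y, hregC y hy⟩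
    simp only at h1 h2
    rw [h1, h2, hker, hψeq χ hχ y hy, Pi.one_apply, one_mul]
  refine ⟨?_, fun χ hχ => ⟨ξ χ, hξ χ, hval χ hχ⟩, fun χ hχ g hg =>
    vanish hP hG χ.2 (hξ χ) (hψ χ) (hf χ) (hdeg χ hχ) hg⟩
  intro η hη
  -- surjectivity
  obtain ⟨χ, hχ, hχη⟩ : ∃ χ ∈ B, ξ χ = η := by
    by_contra hno
    push Not at hno
    have h1 := hsum η hη 1 1 h1reg h1reg
    have h2 : B.toFinset.filter (fun χ => ξ χ = η) = ∅ := by
      rw [Finset.filter_eq_empty_iff]
      intro χ hχ
      exact hno χ (Set.mem_toFinset.1 hχ)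
    rw [h2, Finset.sum_empty, mul_zero] at h1
    have h3 := (mul_eq_zero.1 h1).resolve_left (irr_apply_one_ne_zero hη)
    rw [hsum1 θ hθ 1 1 h1reg h1reg] at h3
    have h4 := (mul_eq_zero.1 h3).resolve_left hP0
    have h5 : ψ θ ⟨1, hregC 1 h1reg⟩ ≠ 0 := irr_apply_one_ne_zero (hψ θ)
    rcases mul_eq_zero.1 h4 with h | h
    · exact h5 h
    · rw [map_eq_zero] at h
      exact h5 h
  exact ⟨χ, hχ, fun u y hy => by rw [hval χ hχ u y hy, hχη]⟩

end Cfsg.Agent.H700.CentralProd
end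

-- part: H700/CentralTwist
section
/-!
# Twisting by an invariant linear character of a normal `p`-subgroup

If `D` is a normal `p`-subgroup of `Y`, `w` a `Y`-invariant linear character of `D`, and
`ψ ∈ Irr(Y/D)` has `p`-defect zero, then there is `ψ' ∈ Irr(Y)` with `ψ' (u y) = w u * ψ y` for
`u ∈ D` and `y` `p`-regular.
-/

set_option autoImplicit false

namespace Cfsg.Agent.H700.CentralTwist

open Cfsg Cfsg.Agent.Characters.Core

universe u

theorem exists_twist {Y : Type u} [Group Y] [Finite Y] (p : ℕ) [Fact p.Prime] {M : Ideal AlgInt}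
    (hM : IsPModular p M) (D : Subgroup Y) [hDn : D.Normal] (hD : IsPGroup p D) (w : D →* ℂˣ)
    (hw : ∀ (y : Y) (u : D), w (MulAut.conjNormal y u) = w u) {ψ : Y → ℂ}
    (hψ : IsIrrCharacter Y ψ) (hker : ∀ u ∈ D, ψ u = ψ 1)
    (hdeg : (charDegree ψ).factorization p = D.index.factorization p) :
    ∃ ψ' : IrrCharacter Y, ∀ (u : D) (y : Y), ¬ p ∣ orderOf y →
      (ψ' : Y → ℂ) (u * y) = (w u : ℂ) * ψ y := by
  classical
  have hprime : M.IsPrime := hM.2.1.isPrime
  set K : Subgroup Y := w.ker.map D.subtype with hK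
  have hmemK : ∀ x : Y, x ∈ K ↔ ∃ h : x ∈ D, w ⟨x, h⟩ = 1 := by
    intro x
    rw [hK, Subgroup.mem_map]
    constructor
    · rintro ⟨u, hu, rfl⟩
      exact ⟨u.2, MonoidHom.mem_ker.1 hu⟩
    · rintro ⟨h, h1⟩
      exact ⟨⟨x, h⟩, MonoidHom.mem_ker.2 h1, rfl⟩
  have hKD : K ≤ D := fun x hx => ((hmemK x).1 hx).1
  have hKn : K.Normal := by
    constructor
    intro x hx y
    obtain ⟨h, h1⟩ := (hmemK x).1 hx
    rw [hmemK]
    refine ⟨hDn.conj_mem x h y, ?_⟩
    have := hw y ⟨x, h⟩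
    rw [h1] at this
    rw [← this]
    congr 1
  let q : Y →* Y ⧸ K := QuotientGroup.mk' K
  have hq : Function.Surjective q := QuotientGroup.mk'_surjective K
  have hqk : q.ker = K := QuotientGroup.ker_mk' K
  set P : Subgroup (Y ⧸ K) := D.map q with hPdef
  have hP : IsPGroup p P := hD.map q
  have hPZ : P ≤ Subgroup.center (Y ⧸ K) := by
    rintro _ ⟨u, hu, rfl⟩
    rw [Subgroup.mem_center_iff]
    intro g
    obtain ⟨y, rfl⟩ := hq g
    rw [← map_mul, ← map_mul]
    have h1 : y * u * y⁻¹ * u⁻¹ ∈ K := by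
      rw [hmemK]
      have h2 : y * u * y⁻¹ ∈ D := hDn.conj_mem u hu y
      refine ⟨D.mul_mem h2 (D.inv_mem hu), ?_⟩
      have h3 := hw y ⟨u, hu⟩
      have h4 : (⟨y * u * y⁻¹ * u⁻¹, D.mul_mem h2 (D.inv_mem hu)⟩ : D) =
          MulAut.conjNormal y ⟨u, hu⟩ * (⟨u, hu⟩ : D)⁻¹ := by
        apply Subtype.ext
        simp [MulAut.conjNormal_apply]
      rw [h4, map_mul, map_inv, h3, mul_inv_cancel]
    have h5 : q (y * u * y⁻¹ * u⁻¹) = 1 := by
      rw [← MonoidHom.mem_ker, hqk]
      exact h1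
    have h6 : y * u = (y * u * y⁻¹ * u⁻¹) * (u * y) := by group
    rw [h6, map_mul, h5, one_mul]
  have := Fintype.ofFinite K
  obtain ⟨ψb, hψb⟩ := Blocks.Deflate.exists_deflation K ψ hψ (by
    have h1 : ∀ n : K, ψ n = ψ 1 := fun n => hker n (hKD n.2)
    rw [Finset.sum_congr rfl fun n _ => h1 n, Finset.sum_const, nsmul_eq_mul]
    refine mul_ne_zero ?_ (isIrr_apply_one_ne_zero hψ)
    exact_mod_cast Finset.card_ne_zero_of_mem (Finset.mem_univ (1 : K)))
  have hψb' : ∀ y : Y, ψ y = (ψb : Y ⧸ K → ℂ) (q y) := fun y => congrFun hψb y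
  have hdeg' : (charDegree (ψb : Y ⧸ K → ℂ)).factorization p = P.index.factorization p := by
    have h1 : charDegree (ψb : Y ⧸ K → ℂ) = charDegree ψ := by
      unfold charDegree
      rw [hψb', map_one]
    have h2 : P.index = D.index := Subgroup.index_map_eq D hq (by rw [hqk]; exact hKD)
    rw [h1, h2, hdeg]
  have hdef := (S0969.result p M hM P hP hPZ ψb hdeg').1
  have hcen : Subgroup.centralizer (P : Set (Y ⧸ K)) = ⊤ := by
    rw [eq_top_iff]
    intro g _
    rw [Subgroup.mem_centralizer_iff]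
    intro u hu
    exact (Subgroup.mem_center_iff.1 (hPZ hu) g).symm
  -- the linear character of `P`
  let r : D →* P := q.subgroupMap D
  have hr : Function.Surjective r := q.subgroupMap_surjective D
  have hrw : r.ker ≤ w.ker := by
    intro u hu
    have h1 : q (u : Y) = 1 := congrArg Subtype.val (MonoidHom.mem_ker.1 hu)
    rw [← MonoidHom.mem_ker, hqk, hmemK] at h1
    obtain ⟨h, h2⟩ := h1
    exact MonoidHom.mem_ker.2 h2
  let wb : P →* ℂˣ := r.liftOfSurjective hr ⟨w, hrw⟩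
  have hwb : ∀ u : D, wb (r u) = w u := fun u =>
    MonoidHom.liftOfRightInverse_comp_apply r _ (Function.rightInverse_surjInv hr) ⟨w, hrw⟩ u
  obtain ⟨χ, -, hχ⟩ := (CentralProd.main p M hM P hP (by rw [hcen, sup_top_eq]) _
    (Blocks.Basic.isPBlock_blockOf ψb) hdef (Blocks.Basic.mem_blockOf_self ψb) (by
      rintro _ ⟨u, hu, rfl⟩
      have := hker u hu
      rw [hψb', hψb', map_one] at this
      exact this)).1 (fun x => (wb x : ℂ)) (CharDeep.LinearChar.isIrrCharacter_of_hom wb)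
  refine ⟨⟨fun y => (χ : Y ⧸ K → ℂ) (q y), isIrr_comp q hq χ.2⟩, fun u y hy => ?_⟩
  have h1 := hχ (r u) (q y) (fun h => hy (h.trans (orderOf_map_dvd q y)))
  rw [hwb, ← hψb'] at h1
  rw [← h1]
  show (χ : Y ⧸ K → ℂ) (q ((u : Y) * y)) = _
  rw [map_mul]
  rfl

end Cfsg.Agent.H700.CentralTwist
end

-- part: H700/NormData
section
/-!
# A block with normal defect group: the canonical character

`D` is a normal defect group of the block `B` of `G` and `N = D C_G(D)`.
-/

set_option autoImplicit false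

namespace Cfsg.Agent.H700.NormData

open Cfsg Cfsg.Agent.Characters.Core Cfsg.Agent.Blocks.CentralProduct
open scoped ComplexConjugate

universe u

variable {G : Type u} [Group G] {p : ℕ} {M : Ideal AlgInt}

theorem exists_mul {D N : Subgroup G} [D.Normal] (hN : N = D ⊔ Subgroup.centralizer (D : Set G))
    {n : G} (hn : n ∈ N) : ∃ d ∈ D, ∃ c ∈ Subgroup.centralizer (D : Set G), d * c = n := by
  rw [hN] at hn
  exact Subgroup.mem_sup_of_normal_left.1 hn

theorem sup_eq_top {D N : Subgroup G} [D.Normal]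
    (hN : N = D ⊔ Subgroup.centralizer (D : Set G)) :
    D.subgroupOf N ⊔ Subgroup.centralizer (D.subgroupOf N : Set N) = ⊤ := by
  have hDN : D ≤ N := hN ▸ le_sup_left
  have hCN : Subgroup.centralizer (D : Set G) ≤ N := hN ▸ le_sup_right
  rw [eq_top_iff]
  intro n _
  obtain ⟨d, hd, c, hc, h⟩ := exists_mul hN n.2
  have h1 : n = ⟨d, hDN hd⟩ * ⟨c, hCN hc⟩ := Subtype.ext h.symm
  rw [h1]
  refine Subgroup.mul_mem_sup (Subgroup.mem_subgroupOf.2 hd) ?_
  rw [Subgroup.mem_centralizer_iff]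
  intro u hu
  apply Subtype.ext
  exact Subgroup.mem_centralizer_iff.1 hc u (Subgroup.mem_subgroupOf.1 hu)

/-- The canonical character. -/
structure Data (p : ℕ) (M : Ideal AlgInt) (B : Set (IrrCharacter G)) (D N : Subgroup G)
    (b : Set (IrrCharacter N)) (θ : IrrCharacter N) : Prop where
  eqN : N = D ⊔ Subgroup.centralizer (D : Set G)
  isPGroup : IsPGroup p D
  blk : IsPBlock M b
  defect : IsDefectGroup p M b (D.subgroupOf N)
  ind : IsInducedBlock M N b B
  mem : θ ∈ b
  ker : ∀ x ∈ D.subgroupOf N, (θ : N → ℂ) x = (θ : N → ℂ) 1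
  uniq : ∀ θ' ∈ b, (∀ x ∈ D.subgroupOf N, (θ' : N → ℂ) x = (θ' : N → ℂ) 1) → θ' = θ
  deg : (charDegree (θ : N → ℂ)).factorization p = (D.subgroupOf N).index.factorization p

theorem isPGroup_of_isDefectGroup {B : Set (IrrCharacter G)} {D : Subgroup G}
    (hD : IsDefectGroup p M B D) : IsPGroup p D := by
  obtain ⟨g, -, P, rfl⟩ := hD
  exact P.2.map _

theorem exists_data [Finite G] [Fact p.Prime] (hM : IsPModular p M) {B : Set (IrrCharacter G)}
    (hB : IsPBlock M B) {D : Subgroup G} [D.Normal] (hD : IsDefectGroup p M B D) :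
    ∃ (b : Set (IrrCharacter ↥(D ⊔ Subgroup.centralizer (D : Set G))))
      (θ : IrrCharacter ↥(D ⊔ Subgroup.centralizer (D : Set G))),
      Data p M B D (D ⊔ Subgroup.centralizer (D : Set G)) b θ := by
  obtain ⟨b, hbD, hind⟩ := (S0973.result p M hM B hB D hD).1
  have hDp := isPGroup_of_isDefectGroup hD
  have hDp' : IsPGroup p (D.subgroupOf (D ⊔ Subgroup.centralizer (D : Set G))) :=
    hDp.comap_of_injective (Subgroup.subtype _) (Subgroup.subtype_injective _)
  obtain ⟨⟨θ, ⟨hθ, hθk⟩, huniq⟩, hdeg, -⟩ := S0968.result p M hM _ hDp' (sup_eq_top rfl) b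
    hind.1 hbD
  exact ⟨b, θ, rfl, hDp, hind.1, hbD, hind, hθ, hθk, fun θ' h1 h2 => huniq θ' ⟨h1, h2⟩,
    hdeg θ hθ hθk⟩

section consequences

variable [Finite G] [Fact p.Prime] {B : Set (IrrCharacter G)} {D N : Subgroup G} [D.Normal]
  {b : Set (IrrCharacter N)} {θ : IrrCharacter N}

theorem Data.isPGroup' (h : Data p M B D N b θ) : IsPGroup p (D.subgroupOf N) :=
  h.isPGroup.comap_of_injective (Subgroup.subtype _) (Subgroup.subtype_injective _)

omit [Finite G] [Fact p.Prime] [D.Normal] in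
theorem Data.le (h : Data p M B D N b θ) : D ≤ N := h.eqN ▸ le_sup_left

omit [Finite G] [Fact p.Prime] [D.Normal] in
theorem Data.centralizer_le (h : Data p M B D N b θ) : Subgroup.centralizer (D : Set G) ≤ N :=
  h.eqN ▸ le_sup_right

omit [Finite G] [Fact p.Prime] in
theorem Data.normal (h : Data p M B D N b θ) : N.Normal := by
  rw [h.eqN]
  have : (Subgroup.centralizer (D : Set G)).Normal := Subgroup.normal_centralizer
  infer_instance

/-- The member of `b` over the linear character `w` of `D`. -/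
theorem Data.exists_lin (hM : IsPModular p M) (h : Data p M B D N b θ) (w : D →* ℂˣ) :
    ∃ φ ∈ b, (∀ (u : G) (hu : u ∈ D) (y : N), ¬ p ∣ orderOf y →
      (φ : N → ℂ) (⟨u, h.le hu⟩ * y) = (w ⟨u, hu⟩ : ℂ) * (θ : N → ℂ) y) ∧
      ∀ g : N, g ∉ prodSet p (D.subgroupOf N) → (φ : N → ℂ) g = 0 := by
  obtain ⟨h1, -, h3⟩ := CentralProd.main p M hM (D.subgroupOf N) h.isPGroup'
    (sup_eq_top h.eqN) b h.blk h.defect h.mem h.ker
  let j : D.subgroupOf N →* D := (Subgroup.subgroupOfEquivOfLe h.le).toMonoidHom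
  obtain ⟨φ, hφ, hφ1⟩ := h1 (fun x => (w (j x) : ℂ))
    (CharDeep.LinearChar.isIrrCharacter_of_hom (w.comp j))
  refine ⟨φ, hφ, fun u hu y hy => ?_, h3 φ hφ⟩
  exact hφ1 ⟨⟨u, h.le hu⟩, Subgroup.mem_subgroupOf.2 hu⟩ y hy

/-- Values of the members of `b`. -/
theorem Data.exists_eq (hM : IsPModular p M) (h : Data p M B D N b θ) {χ : IrrCharacter N}
    (hχ : χ ∈ b) : (∃ η : D.subgroupOf N → ℂ, IsIrrCharacter (D.subgroupOf N) η ∧
      ∀ (u : D.subgroupOf N) (y : N), ¬ p ∣ orderOf y →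
        (χ : N → ℂ) (u * y) = η u * (θ : N → ℂ) y) ∧
      ∀ g : N, g ∉ prodSet p (D.subgroupOf N) → (χ : N → ℂ) g = 0 := by
  obtain ⟨-, h2, h3⟩ := CentralProd.main p M hM (D.subgroupOf N) h.isPGroup'
    (sup_eq_top h.eqN) b h.blk h.defect h.mem h.ker
  exact ⟨h2 χ hχ, h3 χ hχ⟩

theorem not_dvd_orderOf_one : ¬ p ∣ orderOf (1 : G) := by
  rw [orderOf_one]
  exact (Fact.out : p.Prime).one_lt.ne' ∘ Nat.dvd_one.1

/-- `θ (u y) = θ y`. -/
theorem Data.apply_mul (hM : IsPModular p M) (h : Data p M B D N b θ) (u : G) (hu : u ∈ D) (y : N)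
    (hy : ¬ p ∣ orderOf y) : (θ : N → ℂ) (⟨u, h.le hu⟩ * y) = (θ : N → ℂ) y := by
  obtain ⟨⟨η, hη, h1⟩, -⟩ := h.exists_eq hM h.mem
  have h2 := h1 ⟨⟨u, h.le hu⟩, Subgroup.mem_subgroupOf.2 hu⟩ 1 not_dvd_orderOf_one
  have h3 := h.ker ⟨u, h.le hu⟩ (Subgroup.mem_subgroupOf.2 hu)
  rw [mul_one] at h2
  have h4 : η ⟨⟨u, h.le hu⟩, Subgroup.mem_subgroupOf.2 hu⟩ = 1 := by
    have h5 : η ⟨⟨u, h.le hu⟩, Subgroup.mem_subgroupOf.2 hu⟩ * (θ : N → ℂ) 1 =
        1 * (θ : N → ℂ) 1 := by
      rw [← h2, one_mul]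
      exact h3
    exact mul_right_cancel₀ (isIrr_apply_one_ne_zero θ.2) h5
  rw [← one_mul ((θ : N → ℂ) y), ← h4]
  exact h1 ⟨⟨u, h.le hu⟩, Subgroup.mem_subgroupOf.2 hu⟩ y hy

end consequences

end Cfsg.Agent.H700.NormData
end

-- part: H700/SchurAvg
section
/-!
# Averaging over a subgroup on which an irreducible representation stays irreducible

`H = V T` with `V` abelian normal, `V ∩ T = 1`, `N ≤ T` the centralizer of `V` in `T`.  If all the
irreducible characters of `H` over an invariant `θ ∈ Irr(N)` have the same degree and `|T : N|` is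
prime to `|V|`, then `T` centralizes `V`.
-/

set_option autoImplicit false

namespace Cfsg.Agent.H700.SchurAvg

open Cfsg Cfsg.Agent.Characters.Core Cfsg.Agent.Characters.Clifford
open scoped ComplexConjugate

/-- Averaging over a group on which the representation stays irreducible. -/
theorem sum_conj_mul_hom {H K : Type*} [Group H] [Group K] [Fintype K] (f : K →* H) {χ : H → ℂ}
    (hχ : IsIrrCharacter H χ) (hT : IsIrrCharacter K (fun t : K => χ (f t))) (x y : H) :
    ∑ t : K, χ (f t * x * (f t)⁻¹ * y) = Nat.card K * χ x / χ 1 * χ y := by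
  classical
  obtain ⟨n, ρ, hρ, rfl⟩ := hχ
  let σ : Representation ℂ K (Fin n → ℂ) := ρ.comp f
  have hσc : σ.character = fun t : K => ρ.character (f t) := rfl
  have hσ : σ.IsIrreducible := isIrreducible_of_isIrrCharacter σ (by rw [hσc]; exact hT)
  let A : (Fin n → ℂ) →ₗ[ℂ] (Fin n → ℂ) := ∑ t : K, ρ (f t * x * (f t)⁻¹)
  have hA : ∀ g : K, A ∘ₗ σ g = σ g ∘ₗ A := by
    intro g
    show (∑ t : K, ρ (f t * x * (f t)⁻¹)) * ρ (f g) =
      ρ (f g) * (∑ t : K, ρ (f t * x * (f t)⁻¹))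
    rw [Finset.sum_mul, Finset.mul_sum]
    refine Fintype.sum_equiv (Equiv.mulLeft g⁻¹) _ _ fun t => ?_
    rw [← map_mul, ← map_mul]
    congr 1
    simp only [Equiv.coe_mulLeft, map_mul, map_inv]
    group
  have h1 := Blocks.CliffordCentral.eq_scalar_of_commute σ A hA
  have h2 : LinearMap.trace ℂ _ A = Nat.card K * ρ.character x := by
    show LinearMap.trace ℂ _ (∑ t : K, ρ (f t * x * (f t)⁻¹)) = _
    rw [map_sum]
    have : ∀ t : K, LinearMap.trace ℂ _ (ρ (f t * x * (f t)⁻¹)) = ρ.character x :=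
      fun t => ρ.char_conj x (f t)
    rw [Finset.sum_congr rfl fun t _ => this t, Finset.sum_const, Finset.card_univ, nsmul_eq_mul,
      Nat.card_eq_fintype_card]
  have h3 : ∑ t : K, ρ.character (f t * x * (f t)⁻¹ * y) =
      LinearMap.trace ℂ _ (A ∘ₗ ρ y) := by
    show _ = LinearMap.trace ℂ _ ((∑ t : K, ρ (f t * x * (f t)⁻¹)) * ρ y)
    rw [Finset.sum_mul, map_sum]
    refine Finset.sum_congr rfl fun t _ => ?_
    rw [← map_mul]
    rfl
  have h4 : σ.character 1 = ρ.character 1 := by rw [hσc]; simp only [map_one]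
  rw [h3, h1, h2, h4, LinearMap.smul_comp, LinearMap.id_comp, map_smul, smul_eq_mul]
  rfl

/-- Averaging over a subgroup on which the representation stays irreducible. -/
theorem sum_conj_mul {H : Type*} [Group H] (T : Subgroup H) [Fintype T] {χ : H → ℂ}
    (hχ : IsIrrCharacter H χ) (hT : IsIrrCharacter T (fun t : T => χ t)) (x y : H) :
    ∑ t : T, χ ((t : H) * x * (t : H)⁻¹ * y) = Nat.card T * χ x / χ 1 * χ y :=
  sum_conj_mul_hom T.subtype hχ hT x y

/-- Averaging over the whole group. -/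
theorem sum_conj_mul_self {H : Type*} [Group H] [Fintype H] {χ : H → ℂ}
    (hχ : IsIrrCharacter H χ) (x y : H) :
    ∑ t : H, χ (t * x * t⁻¹ * y) = Nat.card H * χ x / χ 1 * χ y :=
  sum_conj_mul_hom (MonoidHom.id H) hχ hχ x y

/-- The value at the inverse. -/
theorem mul_inv_eq {H : Type*} [Group H] [Finite H] {χ : H → ℂ} (hχ : IsIrrCharacter H χ)
    (x : H) : χ x * χ x⁻¹ = (Complex.normSq (χ x) : ℂ) := by
  rw [isCharacter_apply_inv (isIrr_isCharacter hχ), Complex.mul_conj]

section Over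

variable {H : Type*} [Group H] [Fintype H] (T N : Subgroup H) [N.Normal] [Fintype N] [Fintype T]

/-- `χ` lies over `θ`. -/
def Ov (θ : N → ℂ) (χ : H → ℂ) : Prop := classInner (fun n : N => χ n) θ ≠ 0

variable {N}

omit [Fintype T] in
theorem mult_eq {θ : N → ℂ} (hθ : IsIrrCharacter N θ)
    (hinv : ∀ g : H, θ ∘ (MulAut.conjNormal g : MulAut N) = θ) {χ : H → ℂ}
    (hχ : IsIrrCharacter H χ) (h : Ov N θ χ) :
    classInner (fun n : N => χ n) θ = χ 1 / θ 1 := by
  have h1 := CharDeep.CliffordCorr.restrict_eq_smul_of_invariant N hχ hθ hinv h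
  have h2 := congrFun h1 1
  simp only [Pi.smul_apply, smul_eq_mul, OneMemClass.coe_one] at h2
  rw [h2, mul_div_assoc, div_self (isIrr_apply_one_ne_zero hθ), mul_one]

theorem over_apply {θ : N → ℂ} (hθ : IsIrrCharacter N θ)
    (hinv : ∀ g : H, θ ∘ (MulAut.conjNormal g : MulAut N) = θ) {χ : H → ℂ}
    (hχ : IsIrrCharacter H χ) (h : Ov N θ χ) (n : N) : χ n = χ 1 / θ 1 * θ n := by
  have h1 := CharDeep.CliffordCorr.restrict_eq_smul_of_invariant N hχ hθ hinv h
  have h2 := congrFun h1 n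
  rw [mult_eq hθ hinv hχ h] at h2
  exact h2

open scoped Classical in
theorem sum_over [Fintype (IrrCharacter H)] {θ : N → ℂ} (hθ : IsIrrCharacter N θ)
    (hinv : ∀ g : H, θ ∘ (MulAut.conjNormal g : MulAut N) = θ) (g : H) :
    ∑ χ ∈ Finset.univ.filter (fun χ : IrrCharacter H => Ov N θ χ), (χ : H → ℂ) 1 * (χ : H → ℂ) g =
      θ 1 * indFun N θ g := by
  have h1 : indFun N θ g = ∑ χ : IrrCharacter H,
      classInner (fun n : N => (χ : H → ℂ) n) θ * (χ : H → ℂ) g := by
    conv_lhs => rw [classFunction_eq_sum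
      (CharactersDeep.NormalInd.indFun_isClassFunction N θ)]
    simp only [Finset.sum_apply, Pi.smul_apply, smul_eq_mul]
    refine Finset.sum_congr rfl fun χ _ => ?_
    rw [CharactersDeep.NormalInd.classInner_indFun N θ _ (isIrr_isClassFunction χ.2)]
    obtain ⟨k, hk⟩ := classInner_isNat (isCharacter_restrict N (isIrr_isCharacter χ.2))
      (isIrr_isCharacter hθ)
    rw [hk, ← classInner_conj_symm, hk, Complex.conj_natCast]
  rw [h1, Finset.sum_filter, Finset.mul_sum]
  refine Finset.sum_congr rfl fun χ _ => ?_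
  have hθ1 := isIrr_apply_one_ne_zero hθ
  split_ifs with h
  · rw [mult_eq hθ hinv χ.2 h]
    field_simp
  · have : classInner (fun n : N => (χ : H → ℂ) n) θ = 0 := by
      by_contra h'
      exact h h'
    rw [this]
    ring

open scoped Classical in
omit [Fintype T] in
/-- Characters over `θ` vanish at `x` if no `t x t⁻¹ (u x u⁻¹)⁻¹` lies in `N`. -/
theorem vanish {K : Type*} [Group K] [Fintype K] (f : K →* H) {θ : N → ℂ} (hθ : IsIrrCharacter N θ)
    (hinv : ∀ g : H, θ ∘ (MulAut.conjNormal g : MulAut N) = θ) {d : ℂ}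
    (hd : ∀ χ : IrrCharacter H, Ov N θ χ → (χ : H → ℂ) 1 = d)
    (hT : ∀ χ : IrrCharacter H, Ov N θ χ → IsIrrCharacter K (fun t : K => (χ : H → ℂ) (f t)))
    (x u : H) (hx : ∀ t : K, f t * x * (f t)⁻¹ * (u * x * u⁻¹)⁻¹ ∉ N)
    (χ : IrrCharacter H) (hχ : Ov N θ χ) : (χ : H → ℂ) x = 0 := by
  have := finite_irr (G := H)
  have := Fintype.ofFinite (IrrCharacter H)
  set S := Finset.univ.filter (fun χ : IrrCharacter H => Ov N θ χ) with hS
  have hd0 : d ≠ 0 := by
    rw [← hd χ hχ]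
    exact isIrr_apply_one_ne_zero χ.2
  have h1 : ∑ χ ∈ S, ∑ t : K, (χ : H → ℂ) 1 *
      (χ : H → ℂ) (f t * x * (f t)⁻¹ * (u * x * u⁻¹)⁻¹) = 0 := by
    rw [Finset.sum_comm]
    refine Finset.sum_eq_zero fun t _ => ?_
    rw [hS, sum_over hθ hinv, CharactersDeep.NormalInd.indFun_of_not_mem N θ (hx t), mul_zero]
  have h2 : ∀ χ ∈ S, ∑ t : K, (χ : H → ℂ) 1 *
      (χ : H → ℂ) (f t * x * (f t)⁻¹ * (u * x * u⁻¹)⁻¹) =
        Nat.card K * (Complex.normSq ((χ : H → ℂ) x) : ℂ) := by
    intro χ hχ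
    have hχ' : Ov N θ χ := (Finset.mem_filter.1 hχ).2
    have h0 := isIrr_apply_one_ne_zero χ.2
    rw [← Finset.mul_sum, sum_conj_mul_hom f χ.2 (hT χ hχ'), ← mul_inv_eq χ.2]
    have h3 : (χ : H → ℂ) (u * x * u⁻¹)⁻¹ = (χ : H → ℂ) x⁻¹ := by
      have := isIrr_isClassFunction χ.2 x⁻¹ u
      rw [← this]
      group
    rw [h3]
    field_simp
  rw [Finset.sum_congr rfl h2, ← Finset.mul_sum] at h1
  have hTc : (Nat.card K : ℂ) ≠ 0 := by exact_mod_cast Nat.card_pos.ne'
  have h3 := (mul_eq_zero.1 h1).resolve_left hTc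
  have h4 : ∑ χ ∈ S, Complex.normSq ((χ : H → ℂ) x) = 0 := by exact_mod_cast h3
  have h5 := (Finset.sum_eq_zero_iff_of_nonneg fun χ _ => Complex.normSq_nonneg _).1 h4 χ
    (Finset.mem_filter.2 ⟨Finset.mem_univ _, hχ⟩)
  exact Complex.normSq_eq_zero.1 h5

/-- The isotypic idempotent acts trivially. -/
theorem sum_theta_mul {θ : N → ℂ} (hθ : IsIrrCharacter N θ)
    (hinv : ∀ g : H, θ ∘ (MulAut.conjNormal g : MulAut N) = θ) {χ : H → ℂ}
    (hχ : IsIrrCharacter H χ) (h : Ov N θ χ) (y : H) :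
    ∑ m : N, θ m⁻¹ * χ ((m : H) * y) = Nat.card N / θ 1 * χ y := by
  classical
  let f : H → ℂ := fun g => if hg : g ∈ N then θ ⟨g, hg⟩⁻¹ else 0
  have hf : IsClassFunction H f := by
    intro g x
    by_cases hg : g ∈ N
    · have hg' : x * g * x⁻¹ ∈ N := Subgroup.Normal.conj_mem inferInstance g hg x
      simp only [f, dif_pos hg, dif_pos hg']
      have := congrFun (hinv x) (⟨g, hg⟩⁻¹ : N)
      rw [← this]
      simp only [Function.comp]
      congr 1
      apply Subtype.ext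
      simp only [MulAut.conjNormal_apply, Subgroup.coe_inv]
      group
    · have hg' : x * g * x⁻¹ ∉ N := by
        intro h
        apply hg
        have := Subgroup.Normal.conj_mem (H := N) inferInstance _ h x⁻¹
        convert this using 1
        group
      simp only [f, dif_neg hg, dif_neg hg']
  have h1 := Blocks.Over.sum_mul_shift hχ hf y
  have h2 : ∀ F : H → ℂ, ∑ n : H, f n * F n = ∑ m : N, θ m⁻¹ * F m := by
    intro F
    have h3 : ∑ n : H, f n * F n = ∑ n ∈ (Finset.univ : Finset N).map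
        ⟨Subtype.val, Subtype.val_injective⟩, f n * F n := by
      symm
      apply Finset.sum_subset (Finset.subset_univ _)
      intro x _ hx
      have : x ∉ N := by
        intro hx'
        apply hx
        rw [Finset.mem_map]
        exact ⟨⟨x, hx'⟩, Finset.mem_univ _, rfl⟩
      simp only [f, dif_neg this, zero_mul]
    rw [h3, Finset.sum_map]
    refine Finset.sum_congr rfl fun m _ => ?_
    simp only [Function.Embedding.coeFn_mk, f, dif_pos m.2]
  rw [h2 (fun n => χ (n * y)), h2] at h1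
  rw [h1]
  congr 1
  have hθ1 := isIrr_apply_one_ne_zero hθ
  have hχ1 := isIrr_apply_one_ne_zero hχ
  have h3 : ∑ m : N, θ m⁻¹ * χ m = χ 1 / θ 1 * Nat.card N := by
    have h4 := classInner_irr_self hθ
    unfold classInner at h4
    have hN0 : (Nat.card N : ℂ) ≠ 0 := by exact_mod_cast Nat.card_pos.ne'
    have h5 : ∑ m : N, θ m * conj (θ m) = Nat.card N := by
      field_simp at h4
      exact h4
    rw [← h5, Finset.mul_sum]
    refine Finset.sum_congr rfl fun m _ => ?_
    rw [over_apply hθ hinv hχ h m, isCharacter_apply_inv (isIrr_isCharacter hθ)]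
    ring
  rw [h3]
  field_simp

/-- If `v` centralizes `N` then `χ (n v) = χ v θ n / θ 1`. -/
theorem apply_mul_of_commute {θ : N → ℂ} (hθ : IsIrrCharacter N θ)
    (hinv : ∀ g : H, θ ∘ (MulAut.conjNormal g : MulAut N) = θ) {χ : H → ℂ}
    (hχ : IsIrrCharacter H χ) (h : Ov N θ χ) {v : H} (hv : ∀ n : N, (n : H) * v = v * n) (n : N) :
    χ ((n : H) * v) = θ n / θ 1 * χ v := by
  have hθ1 := isIrr_apply_one_ne_zero hθ
  have hN0 : (Nat.card N : ℂ) ≠ 0 := by exact_mod_cast Nat.card_pos.ne'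
  have h1 : ∑ m : N, χ (((m * n * m⁻¹ : N) : H) * v) = Nat.card N * χ ((n : H) * v) := by
    rw [Finset.sum_congr rfl fun m _ => ?_, Finset.sum_const, Finset.card_univ, nsmul_eq_mul,
      Nat.card_eq_fintype_card]
    have h2 := isIrr_isClassFunction hχ ((n : H) * v) (m : H)
    rw [← h2]
    congr 1
    have h3 := hv m⁻¹
    simp only [Subgroup.coe_mul, Subgroup.coe_inv, mul_assoc] at h3 ⊢
    rw [h3]
  have h2 : ∀ m : N, χ (((m * n * m⁻¹ : N) : H) * v) =
      θ 1 / Nat.card N * ∑ k : N, θ (m * n * m⁻¹ * k⁻¹) * χ ((k : H) * v) := by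
    intro m
    have h3 := sum_theta_mul hθ hinv hχ h (((m * n * m⁻¹ : N) : H) * v)
    have h4 : ∑ k : N, θ (m * n * m⁻¹ * k⁻¹) * χ ((k : H) * v) =
        ∑ k : N, θ k⁻¹ * χ ((k : H) * (((m * n * m⁻¹ : N) : H) * v)) := by
      refine Fintype.sum_equiv (Equiv.mulRight (m * n * m⁻¹)⁻¹) _ _ fun k => ?_
      simp only [Equiv.coe_mulRight, mul_inv_rev, inv_inv]
      congr 2
      rw [← mul_assoc, ← Subgroup.coe_mul]
      congr 2
      group
    rw [h4, h3]
    field_simp
  rw [Finset.sum_congr rfl fun m _ => h2 m, ← Finset.mul_sum, Finset.sum_comm] at h1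
  have h3 : ∀ k : N, ∑ m : N, θ (m * n * m⁻¹ * k⁻¹) * χ ((k : H) * v) =
      Nat.card N * θ n / θ 1 * (θ k⁻¹ * χ ((k : H) * v)) := by
    intro k
    rw [← Finset.sum_mul, sum_conj_mul_self hθ]
    ring
  rw [Finset.sum_congr rfl fun k _ => h3 k, ← Finset.mul_sum, sum_theta_mul hθ hinv hχ h] at h1
  have h4 : (Nat.card N : ℂ) * χ ((n : H) * v) = Nat.card N * (θ n / θ 1 * χ v) := by
    rw [← h1]
    field_simp
  exact mul_left_cancel₀ hN0 h4

end Over

end Cfsg.Agent.H700.SchurAvg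
end

-- part: H700/SplitDeg
section
/-!
# Split extensions of abelian groups with all characters of the same degree

`H` is a group with a normal abelian subgroup `V = ker π`, `f` a section of `π : H → K`, and `N` a
normal subgroup of `H` inside the image of `f`, consisting of the elements of that image
centralizing `V`.  If the characters of `H` over an invariant `θ ∈ Irr(N)` all have the same degree
and `K/N` has order prime to `|V|` then `f K` centralizes `V`.
-/

set_option autoImplicit false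

namespace Cfsg.Agent.H700.SplitDeg

open Cfsg Cfsg.Agent.Characters.Core Cfsg.Agent.Characters.Clifford
open Cfsg.Agent.H700.SchurAvg
open scoped ComplexConjugate

/-- Coprime action of a cyclic group on an abelian group. -/
theorem coprime_decomp {A : Type*} [CommGroup A] [Finite A] (σ : A →* A) {k : ℕ}
    (hk : k.Coprime (Nat.card A)) (hσ : ∀ a, (σ^[k]) a = a) :
    (∀ v : A, ∃ u c : A, σ c = c ∧ v * (u * (σ u)⁻¹) = c) ∧
      ∀ u : A, σ (u * (σ u)⁻¹) = u * (σ u)⁻¹ → σ u = u := by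
  have hB : ∀ u : A, σ (u * (σ u)⁻¹) = u * (σ u)⁻¹ → σ u = u := by
    intro u hu
    set c := u * (σ u)⁻¹ with hc
    have h1 : σ u = c⁻¹ * u := by rw [hc]; group
    have h2 : ∀ n : ℕ, (σ^[n]) u = (c⁻¹) ^ n * u := by
      intro n
      induction n with
      | zero => simp
      | succ n ih =>
        rw [Function.iterate_succ_apply', ih, map_mul, map_pow, map_inv, hu, h1, pow_succ]
        group
    have h3 := h2 k
    rw [hσ] at h3
    have h4 : (c⁻¹) ^ k = 1 := by
      have : (c⁻¹) ^ k * u = 1 * u := by rw [one_mul]; exact h3.symm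
      exact mul_right_cancel this
    have h5 : orderOf c⁻¹ = 1 :=
      Nat.eq_one_of_dvd_coprimes hk (orderOf_dvd_of_pow_eq_one h4) (orderOf_dvd_natCard _)
    rw [orderOf_eq_one_iff, inv_eq_one] at h5
    rw [h1, h5, inv_one, one_mul]
  refine ⟨?_, hB⟩
  let φ : A →* A :=
    { toFun := fun u => u * (σ u)⁻¹
      map_one' := by simp
      map_mul' := fun a b => by
        simp only [map_mul, mul_inv_rev]
        rw [mul_comm (σ b)⁻¹ (σ a)⁻¹, mul_mul_mul_comm] }
  have hφ : ∀ u, φ u = u * (σ u)⁻¹ := fun u => rfl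
  have hker : ∀ u, u ∈ φ.ker ↔ σ u = u := by
    intro u
    rw [MonoidHom.mem_ker, hφ, mul_inv_eq_one, eq_comm]
  have hdis : Disjoint φ.ker φ.range := by
    rw [Subgroup.disjoint_def]
    rintro x hx ⟨u, rfl⟩
    rw [hker, hφ] at hx
    rw [hφ, hB u hx, mul_inv_cancel]
  have hcompl : φ.ker.IsComplement' φ.range := by
    apply Subgroup.isComplement'_of_card_mul_and_disjoint _ hdis
    rw [← Subgroup.index_ker, Subgroup.card_mul_index]
  intro v
  have hv : v ∈ φ.ker ⊔ φ.range := by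
    rw [hcompl.sup_eq_top]
    exact Subgroup.mem_top v
  obtain ⟨c, hc, y, ⟨u, rfl⟩, rfl⟩ := Subgroup.mem_sup.1 hv
  refine ⟨u⁻¹, c, (hker c).1 hc, ?_⟩
  have : u⁻¹ * (σ u⁻¹)⁻¹ = (φ u)⁻¹ := by
    rw [← hφ, map_inv]
  rw [this, mul_assoc, mul_inv_cancel, mul_one]

section Main

variable {H K : Type*} [Group H] [Fintype H] [Group K] [Fintype K] (f : K →* H) (π : H →* K)
  (N : Subgroup H) [N.Normal] [Fintype N]

/-- The setting. -/
structure Setup : Prop where
  sec : ∀ k, π (f k) = k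
  comm : ∀ a ∈ π.ker, ∀ b ∈ π.ker, a * b = b * a
  le : ∀ n ∈ N, f (π n) = n
  cen : ∀ n ∈ N, ∀ v ∈ π.ker, n * v = v * n
  mem : ∀ k : K, (∀ v ∈ π.ker, f k * v = v * f k) → f k ∈ N
  cop : ∀ k : K, ∃ m : ℕ, m.Coprime (Nat.card π.ker) ∧ f k ^ m ∈ N

variable {f π N}

omit [N.Normal] [Fintype N] [Fintype K] in
/-- Conjugating into the centralizer. -/
theorem exists_conj (h : Setup f π N) (v : H) (hv : v ∈ π.ker) (g : K) :
    ∃ u ∈ π.ker, ∃ c ∈ π.ker, c * f g = f g * c ∧ u * (v * f g) * u⁻¹ = c * f g := by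
  let _ : CommGroup π.ker :=
    { (inferInstance : Group π.ker) with
      mul_comm := fun a b => Subtype.ext (h.comm a a.2 b b.2) }
  have hn : ∀ a : π.ker, f g * (a : H) * (f g)⁻¹ ∈ π.ker := fun a =>
    Subgroup.Normal.conj_mem inferInstance _ a.2 _
  let σ : π.ker →* π.ker :=
    { toFun := fun a => ⟨f g * (a : H) * (f g)⁻¹, hn a⟩
      map_one' := by
        apply Subtype.ext
        simp
      map_mul' := fun a b => by
        apply Subtype.ext
        simp only [Subgroup.coe_mul]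
        group }
  have hσ : ∀ a : π.ker, ((σ a : π.ker) : H) = f g * (a : H) * (f g)⁻¹ := fun a => rfl
  have hσn : ∀ (n : ℕ) (a : π.ker), (((σ^[n]) a : π.ker) : H) = (f g) ^ n * (a : H) * ((f g) ^ n)⁻¹ := by
    intro n a
    induction n with
    | zero => simp
    | succ n ih =>
      rw [Function.iterate_succ_apply', hσ, ih, pow_succ']
      group
  obtain ⟨m, hm, hmN⟩ := h.cop g
  have h1 := coprime_decomp σ hm (fun a => by
    apply Subtype.ext
    rw [hσn, h.cen _ hmN a a.2]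
    group)
  obtain ⟨u, c, hc, hvc⟩ := h1.1 ⟨v, hv⟩
  refine ⟨u, u.2, c, c.2, ?_, ?_⟩
  · have h2 := congrArg Subtype.val hc
    rw [hσ] at h2
    conv_lhs => rw [← h2]
    group
  · have h2 := congrArg Subtype.val hvc
    simp only [Subgroup.coe_mul, Subgroup.coe_inv, hσ] at h2
    rw [← h2]
    have h3 : v * (u : H) = u * v := h.comm v hv u u.2
    calc (u : H) * (v * f g) * (u : H)⁻¹ = (u * v) * f g * (u : H)⁻¹ := by group
      _ = v * u * f g * (u : H)⁻¹ := by rw [h3]
      _ = v * (u * (f g * u * (f g)⁻¹)⁻¹) * f g := by group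

omit [N.Normal] [Fintype N] [Fintype K] in
/-- If `[u, g]` commutes with `g` then so does `u`. -/
theorem commute_of (h : Setup f π N) (g : K) (u : H) (hu : u ∈ π.ker)
    (hc : f g * (u * (f g * u * (f g)⁻¹)⁻¹) * (f g)⁻¹ = u * (f g * u * (f g)⁻¹)⁻¹) :
    f g * u = u * f g := by
  let _ : CommGroup π.ker :=
    { (inferInstance : Group π.ker) with
      mul_comm := fun a b => Subtype.ext (h.comm a a.2 b b.2) }
  have hn : ∀ a : π.ker, f g * (a : H) * (f g)⁻¹ ∈ π.ker := fun a =>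
    Subgroup.Normal.conj_mem inferInstance _ a.2 _
  let σ : π.ker →* π.ker :=
    { toFun := fun a => ⟨f g * (a : H) * (f g)⁻¹, hn a⟩
      map_one' := by
        apply Subtype.ext
        simp
      map_mul' := fun a b => by
        apply Subtype.ext
        simp only [Subgroup.coe_mul]
        group }
  have hσ : ∀ a : π.ker, ((σ a : π.ker) : H) = f g * (a : H) * (f g)⁻¹ := fun a => rfl
  have hσn : ∀ (n : ℕ) (a : π.ker), (((σ^[n]) a : π.ker) : H) = (f g) ^ n * (a : H) * ((f g) ^ n)⁻¹ := by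
    intro n a
    induction n with
    | zero => simp
    | succ n ih =>
      rw [Function.iterate_succ_apply', hσ, ih, pow_succ']
      group
  obtain ⟨m, hm, hmN⟩ := h.cop g
  have h1 := coprime_decomp σ hm (fun a => by
    apply Subtype.ext
    rw [hσn, h.cen _ hmN a a.2]
    group)
  have h2 := h1.2 ⟨u, hu⟩ (by
    apply Subtype.ext
    rw [hσ]
    simp only [Subgroup.coe_mul, Subgroup.coe_inv, hσ]
    exact hc)
  have h3 := congrArg Subtype.val h2
  rw [hσ] at h3
  simp only at h3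
  conv_rhs => rw [← h3]
  group

/-- The characters over `θ` stay irreducible on `f K`. -/
theorem isIrr_restrict (h : Setup f π N) {θ : N → ℂ} (hθ : IsIrrCharacter N θ)
    (hinv : ∀ g : H, θ ∘ (MulAut.conjNormal g : MulAut N) = θ) {d : ℂ}
    (hd : ∀ χ : IrrCharacter H, Ov N θ χ → (χ : H → ℂ) 1 = d)
    (χ : IrrCharacter H) (hχ : Ov N θ χ) : IsIrrCharacter K (fun t : K => (χ : H → ℂ) (f t)) := by
  classical
  have := finite_irr (G := K)
  have := Fintype.ofFinite (IrrCharacter K)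
  have hc : IsCharacter K (fun t : K => (χ : H → ℂ) (f t)) :=
    isCharacter_comp f (isIrr_isCharacter χ.2)
  obtain ⟨c, hc1, hc2⟩ := CharDeep.CliffordCorr.exists_nat_coeffs hc
  have hd0 : d ≠ 0 := by
    rw [← hd χ hχ]
    exact isIrr_apply_one_ne_zero χ.2
  -- constituents have degree `d`
  have hdeg : ∀ ψ : IrrCharacter K, c ψ ≠ 0 → (ψ : K → ℂ) 1 = d := by
    intro ψ hψ
    have hψ' : IsIrrCharacter H (fun x => (ψ : K → ℂ) (π x)) :=
      isIrr_comp π (fun k => ⟨f k, h.sec k⟩) ψ.2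
    have h1 := hd ⟨_, hψ'⟩ ?_
    · simpa using h1
    · -- `ψ ∘ π` lies over `θ`
      intro h0
      have hcψ : IsCharacter N (fun n : N => (ψ : K → ℂ) (π n)) :=
        isCharacter_comp (π.comp N.subtype) (isIrr_isCharacter ψ.2)
      have hres : ∀ ψ : IrrCharacter K, IsCharacter N (fun n : N => (ψ : K → ℂ) (π n)) := fun ψ =>
        isCharacter_comp (π.comp N.subtype) (isIrr_isCharacter ψ.2)
      have := finite_irr (G := N)
      have := Fintype.ofFinite (IrrCharacter N)
      have hall : ∀ η : IrrCharacter N,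
          classInner (fun n : N => (ψ : K → ℂ) (π n)) (η : N → ℂ) = 0 := by
        intro η
        by_cases hηθ : (η : N → ℂ) = θ
        · rw [hηθ]
          exact h0
        · choose b hb using fun ψ : IrrCharacter K =>
            classInner_isNat (hres ψ) (isIrr_isCharacter η.2)
          have h2 : classInner (fun n : N => (χ : H → ℂ) n) (η : N → ℂ) = 0 := by
            have h3 : (fun n : N => (χ : H → ℂ) n) = ((χ : H → ℂ) 1 / θ 1) • θ := by
              funext n
              rw [over_apply hθ hinv χ.2 hχ n]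
              rfl
            rw [h3, classInner_smul_left, classInner_irr_ne hθ η.2 (fun h => hηθ h.symm), mul_zero]
          have h3 : (fun n : N => (χ : H → ℂ) n) = ∑ ψ : IrrCharacter K,
              (c ψ : ℂ) • (fun n : N => (ψ : K → ℂ) (π n)) := by
            funext n
            have h4 := congrFun hc1 (π n)
            simp only [Finset.sum_apply, Pi.smul_apply, smul_eq_mul, h.le n n.2] at h4 ⊢
            exact h4
          rw [h3, classInner_sum_left] at h2
          simp_rw [classInner_smul_left, hb] at h2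
          have h4 : ∑ ψ : IrrCharacter K, c ψ * b ψ = 0 := by exact_mod_cast h2
          have h5 := (Finset.sum_eq_zero_iff.1 h4) ψ (Finset.mem_univ _)
          have h6 := (Nat.mul_eq_zero.1 h5).resolve_left hψ
          rw [hb, h6, Nat.cast_zero]
      have h7 := classFunction_eq_sum (isCharacter_isClassFunction hcψ)
      have h8 := congrFun h7 1
      simp only [Finset.sum_apply, hall, zero_smul, Pi.zero_apply, Finset.sum_const_zero,
        OneMemClass.coe_one, map_one] at h8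
      exact isIrr_apply_one_ne_zero ψ.2 h8
  have hsum : ∑ ψ : IrrCharacter K, c ψ = 1 := by
    have h1 := congrFun hc1 1
    simp only [Finset.sum_apply, Pi.smul_apply, smul_eq_mul, map_one, hd χ hχ] at h1
    have h2 : ∀ ψ : IrrCharacter K, (c ψ : ℂ) * (ψ : K → ℂ) 1 = (c ψ : ℂ) * d := by
      intro ψ
      by_cases hψ : c ψ = 0
      · rw [hψ]; simp
      · rw [hdeg ψ hψ]
    rw [Finset.sum_congr rfl fun ψ _ => h2 ψ, ← Finset.sum_mul] at h1
    have h3 : (∑ ψ : IrrCharacter K, (c ψ : ℂ)) = 1 := by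
      have : (1 : ℂ) * d = (∑ ψ : IrrCharacter K, (c ψ : ℂ)) * d := by rw [one_mul]; exact h1
      exact (mul_right_cancel₀ hd0 this).symm
    exact_mod_cast h3
  obtain ⟨ψ₀, -, hψ₀⟩ : ∃ ψ ∈ (Finset.univ : Finset (IrrCharacter K)), c ψ ≠ 0 := by
    apply Finset.exists_ne_zero_of_sum_ne_zero
    rw [hsum]
    exact one_ne_zero
  have hsplit := Finset.add_sum_erase Finset.univ c (Finset.mem_univ ψ₀)
  rw [hsum] at hsplit
  have h0 : ∑ ψ ∈ Finset.univ.erase ψ₀, c ψ = 0 := by omega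
  have h1 : c ψ₀ = 1 := by omega
  have h2 : (fun t : K => (χ : H → ℂ) (f t)) = (ψ₀ : K → ℂ) := by
    rw [hc1, ← Finset.add_sum_erase _ _ (Finset.mem_univ ψ₀), h1, Nat.cast_one, one_smul,
      Finset.sum_eq_zero, add_zero]
    intro ψ hψ
    rw [(Finset.sum_eq_zero_iff.1 h0) ψ hψ, Nat.cast_zero, zero_smul]
  rw [h2]
  exact ψ₀.2

/-- Vanishing off the product of `V` and `N`. -/
theorem vanish_off (h : Setup f π N) {θ : N → ℂ} (hθ : IsIrrCharacter N θ)
    (hinv : ∀ g : H, θ ∘ (MulAut.conjNormal g : MulAut N) = θ) {d : ℂ}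
    (hd : ∀ χ : IrrCharacter H, Ov N θ χ → (χ : H → ℂ) 1 = d)
    (χ : IrrCharacter H) (hχ : Ov N θ χ) (v : H) (hv : v ∈ π.ker) (g : K) (hg : f g ∉ N) :
    (χ : H → ℂ) (v * f g) = 0 := by
  obtain ⟨u₀, hu₀, c, hc, hcg, hcon⟩ := exists_conj h v hv g
  have h1 : (χ : H → ℂ) (v * f g) = (χ : H → ℂ) (c * f g) := by
    rw [← hcon]
    exact (isIrr_isClassFunction χ.2 _ _).symm
  rw [h1]
  obtain ⟨u, hu, huc⟩ : ∃ u ∈ π.ker, f g * u ≠ u * f g := by
    by_contra hcon
    push Not at hcon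
    exact hg (h.mem g hcon)
  refine vanish f hθ hinv hd (isIrr_restrict h hθ hinv hd) (c * f g) u ?_ χ hχ
  intro t hz
  apply huc
  apply commute_of h g u hu
  set z := f t * (c * f g) * (f t)⁻¹ * (u * (c * f g) * u⁻¹)⁻¹ with hzdef
  have hπ : π z = t * g * t⁻¹ * g⁻¹ := by
    rw [hzdef]
    simp only [map_mul, map_inv, h.sec, MonoidHom.mem_ker.1 hc, MonoidHom.mem_ker.1 hu]
    group
  have hz' : f (t * g * t⁻¹ * g⁻¹) = z := by rw [← hπ]; exact h.le z hz
  simp only [map_mul, map_inv] at hz'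
  -- `k = z` centralizes the kernel
  have hcz := h.cen z hz
  have hker : ∀ a ∈ π.ker, ∀ x : H, x * a * x⁻¹ ∈ π.ker := fun a ha x =>
    Subgroup.Normal.conj_mem inferInstance _ ha _
  -- `f t c (f t)⁻¹ = c [u, g]`
  have hw := hker u hu (f g)
  have e1 : f t * f g * (f t)⁻¹ = z * f g := by rw [← hz']; group
  have e2 : z = f t * c * (f t)⁻¹ * (z * (f g * u * (f g)⁻¹) * c⁻¹ * u⁻¹) := by
    conv_lhs => rw [hzdef]
    have : f t * (c * f g) * (f t)⁻¹ = f t * c * (f t)⁻¹ * (f t * f g * (f t)⁻¹) := by group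
    rw [this, e1]
    group
  set w := f g * u * (f g)⁻¹ with hwdef
  set c' := f t * c * (f t)⁻¹ with hc'def
  have hc' : c' ∈ π.ker := hker c hc (f t)
  have e3 : c' * w * c⁻¹ * u⁻¹ = 1 := by
    have h3 : z * (c' * w * c⁻¹ * u⁻¹) = z * 1 := by
      rw [mul_one]
      calc z * (c' * w * c⁻¹ * u⁻¹) = (z * c') * w * c⁻¹ * u⁻¹ := by group
        _ = (c' * z) * w * c⁻¹ * u⁻¹ := by rw [hcz c' hc']
        _ = c' * (z * w * c⁻¹ * u⁻¹) := by group
        _ = z := e2.symm
    exact mul_left_cancel h3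
  have e4 : u * w⁻¹ = c⁻¹ * c' := by
    have h3 : w * c⁻¹ = c⁻¹ * w := h.comm w hw _ (π.ker.inv_mem hc)
    have h4 : u⁻¹ * w = w * u⁻¹ := h.comm _ (π.ker.inv_mem hu) w hw
    have h5 : c' * c⁻¹ = c⁻¹ * c' := h.comm _ hc' _ (π.ker.inv_mem hc)
    have h6 : (c' * c⁻¹) * (w * u⁻¹) = 1 := by
      rw [← e3]
      calc (c' * c⁻¹) * (w * u⁻¹) = c' * (c⁻¹ * w) * u⁻¹ := by group
        _ = c' * w * c⁻¹ * u⁻¹ := by rw [← h3]; group
    rw [← h5, eq_comm]
    calc c' * c⁻¹ = (c' * c⁻¹) * (w * u⁻¹) * (u * w⁻¹) := by group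
      _ = u * w⁻¹ := by rw [h6, one_mul]
  rw [e4]
  have e5 : f g * f t = z⁻¹ * (f t * f g) := by rw [← hz']; group
  have e6 : f g * c⁻¹ * (f g)⁻¹ = c⁻¹ := by
    have : f g * c⁻¹ * (f g)⁻¹ = (f g * c * (f g)⁻¹)⁻¹ := by group
    rw [this, ← hcg]
    group
  have e7 : f g * c * (f g)⁻¹ = c := by rw [← hcg]; group
  have e8 : f g * c' * (f g)⁻¹ = c' := by
    calc f g * c' * (f g)⁻¹ = (f g * f t) * c * (f g * f t)⁻¹ := by rw [hc'def]; group
      _ = z⁻¹ * (f t * (f g * c * (f g)⁻¹) * (f t)⁻¹) * z := by rw [e5]; group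
      _ = z⁻¹ * (c' * z) := by rw [e7, hc'def]; group
      _ = c' := by rw [← hcz c' hc']; group
  calc f g * (c⁻¹ * c') * (f g)⁻¹ = (f g * c⁻¹ * (f g)⁻¹) * (f g * c' * (f g)⁻¹) := by group
    _ = c⁻¹ * c' := by rw [e6, e8]

open scoped Classical in
/-- Sums over `H`. -/
theorem sum_eq' {H K : Type*} [Group H] [Fintype H] [Group K] [Fintype K] {f : K →* H}
    {π : H →* K} (hsec : ∀ k, π (f k) = k) (F : H → ℂ) :
    ∑ x : H, F x = ∑ k : K, ∑ v : π.ker, F ((v : H) * f k) := by
  rw [← Fintype.sum_prod_type' (f := fun (k : K) (v : π.ker) => F ((v : H) * f k))]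
  symm
  refine Fintype.sum_bijective (fun y : K × π.ker => (y.2 : H) * f y.1) ⟨?_, ?_⟩ _ _ fun _ => rfl
  · rintro ⟨k, v⟩ ⟨k', v'⟩ hkv
    simp only at hkv
    have h1 := congrArg π hkv
    rw [map_mul, map_mul, hsec, hsec, MonoidHom.mem_ker.1 v.2, MonoidHom.mem_ker.1 v'.2,
      one_mul, one_mul] at h1
    subst h1
    have h2 := mul_right_cancel hkv
    rw [Subtype.ext h2]
  · intro x
    refine ⟨(π x, ⟨x * (f (π x))⁻¹, ?_⟩), by simp⟩
    rw [MonoidHom.mem_ker, map_mul, map_inv, hsec, mul_inv_cancel]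

omit [N.Normal] [Fintype N] in
open scoped Classical in
/-- Sums over `H`. -/
theorem sum_eq (h : Setup f π N) (F : H → ℂ) :
    ∑ x : H, F x = ∑ k : K, ∑ v : π.ker, F ((v : H) * f k) := sum_eq' h.sec F

omit [Fintype H] [Fintype K] in
theorem sum_mul_inv {X : Type*} [Group X] [Fintype X] {ψ : X → ℂ} (hψ : IsIrrCharacter X ψ) :
    ∑ x : X, ψ x * ψ x⁻¹ = Nat.card X := by
  have h4 := classInner_irr_self hψ
  unfold classInner at h4
  have hN0 : (Nat.card X : ℂ) ≠ 0 := by exact_mod_cast Nat.card_pos.ne'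
  have h5 : ∑ m : X, ψ m * conj (ψ m) = Nat.card X := by
    field_simp at h4
    exact h4
  rw [← h5]
  exact Finset.sum_congr rfl fun x _ => by rw [isCharacter_apply_inv (isIrr_isCharacter hψ)]

open scoped Classical in
theorem sum_ker (h : Setup f π N) {θ : N → ℂ} (hθ : IsIrrCharacter N θ)
    (hinv : ∀ g : H, θ ∘ (MulAut.conjNormal g : MulAut N) = θ) {d : ℂ}
    (hd : ∀ χ : IrrCharacter H, Ov N θ χ → (χ : H → ℂ) 1 = d)
    (χ : IrrCharacter H) (hχ : Ov N θ χ) :
    ∑ v : π.ker, (χ : H → ℂ) v * (χ : H → ℂ) (v : H)⁻¹ = Nat.card π.ker * d ^ 2 := by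
  have hθ1 := isIrr_apply_one_ne_zero hθ
  have hχ1 := hd χ hχ
  have hd0 : d ≠ 0 := by
    rw [← hχ1]
    exact isIrr_apply_one_ne_zero χ.2
  have hHK : (Nat.card H : ℂ) = Nat.card π.ker * Nat.card K := by
    have h1 := sum_eq h (fun _ => (1 : ℂ))
    simp only [Finset.sum_const, Finset.card_univ, nsmul_eq_mul, mul_one] at h1
    rw [Nat.card_eq_fintype_card, Nat.card_eq_fintype_card, Nat.card_eq_fintype_card, h1]
    ring
  let a : K → ℂ := fun k => if hk : f k ∈ N then θ ⟨f k, hk⟩ * θ ⟨f k, hk⟩⁻¹ / θ 1 ^ 2 else 0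
  have h1 : ∀ (k : K) (v : π.ker), (χ : H → ℂ) ((v : H) * f k) * (χ : H → ℂ) ((v : H) * f k)⁻¹ =
      a k * ((χ : H → ℂ) v * (χ : H → ℂ) (v : H)⁻¹) := by
    intro k v
    by_cases hk : f k ∈ N
    · simp only [a, dif_pos hk]
      have e1 : (v : H) * f k = f k * v := (h.cen _ hk v v.2).symm
      have e2 := apply_mul_of_commute hθ hinv χ.2 hχ (v := (v : H))
        (fun n => h.cen n n.2 v v.2) ⟨f k, hk⟩
      have e3 := apply_mul_of_commute hθ hinv χ.2 hχ (v := (v : H)⁻¹)
        (fun n => h.cen n n.2 _ (π.ker.inv_mem v.2)) ⟨f k, hk⟩⁻¹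
      have e4 : ((v : H) * f k)⁻¹ = (f k)⁻¹ * (v : H)⁻¹ := mul_inv_rev _ _
      simp only [Subgroup.coe_inv] at e3
      rw [e4, e1, e2, e3]
      ring
    · simp only [a, dif_neg hk]
      rw [vanish_off h hθ hinv hd χ hχ v v.2 k hk, zero_mul, zero_mul]
  have h2 := sum_mul_inv χ.2
  rw [sum_eq h] at h2
  simp_rw [h1, ← Finset.mul_sum] at h2
  rw [← Finset.sum_mul] at h2
  have h3 := sum_mul_inv (isIrr_restrict h hθ hinv hd χ hχ)
  have h4 : ∀ k : K, (χ : H → ℂ) (f k) * (χ : H → ℂ) (f k⁻¹) = a k * d ^ 2 := by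
    intro k
    have := h1 k 1
    simp only [OneMemClass.coe_one, one_mul, inv_one, hχ1] at this
    rw [map_inv, this]
    ring
  rw [Finset.sum_congr rfl fun k _ => h4 k, ← Finset.sum_mul] at h3
  have hK0 : (Nat.card K : ℂ) ≠ 0 := by exact_mod_cast Nat.card_pos.ne'
  have ha0 : ∑ k : K, a k ≠ 0 := by
    intro h0
    rw [h0, zero_mul] at h3
    exact hK0 h3.symm
  rw [hHK] at h2
  have h5 : (∑ k : K, a k) * (∑ v : π.ker, (χ : H → ℂ) v * (χ : H → ℂ) (v : H)⁻¹) =
      (∑ k : K, a k) * (Nat.card π.ker * d ^ 2) := by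
    rw [h2, ← h3]
    ring
  exact mul_left_cancel₀ ha0 h5

open scoped Classical in
/-- The main result: `f K` centralizes `π.ker`. -/
theorem centralizes (h : Setup f π N) {θ : N → ℂ} (hθ : IsIrrCharacter N θ)
    (hinv : ∀ g : H, θ ∘ (MulAut.conjNormal g : MulAut N) = θ) {d : ℂ}
    (hd : ∀ χ : IrrCharacter H, Ov N θ χ → (χ : H → ℂ) 1 = d) (k : K) (v : H)
    (hv : v ∈ π.ker) : f k * v = v * f k := by
  have := finite_irr (G := H)
  have := Fintype.ofFinite (IrrCharacter H)
  set S := Finset.univ.filter (fun χ : IrrCharacter H => Ov N θ χ) with hS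
  obtain ⟨χ₀, hχ₀⟩ := Blocks.Over.exists_over N ⟨θ, hθ⟩
  have hd0 : d ≠ 0 := by
    rw [← hd χ₀ hχ₀]
    exact isIrr_apply_one_ne_zero χ₀.2
  have hθ1 := isIrr_apply_one_ne_zero hθ
  have hSpos : (S.card : ℂ) ≠ 0 := by
    have : χ₀ ∈ S := Finset.mem_filter.2 ⟨Finset.mem_univ _, hχ₀⟩
    exact_mod_cast (Finset.card_pos.2 ⟨χ₀, this⟩).ne'
  have hK0 : (Nat.card K : ℂ) ≠ 0 := by exact_mod_cast Nat.card_pos.ne'
  -- the value of the sum at the identity
  have hA : θ 1 * indFun N θ 1 = S.card * d ^ 2 := by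
    rw [← sum_over hθ hinv, ← hS, Finset.sum_congr rfl (g := fun _ => d ^ 2) ?_,
      Finset.sum_const, nsmul_eq_mul]
    intro χ hχ
    rw [hd χ (Finset.mem_filter.1 hχ).2, sq]
  have h1 : ∀ v : π.ker, ∑ t : K, θ 1 * indFun N θ (f t * v * (f t)⁻¹ * (v : H)⁻¹) =
      Nat.card K * ∑ χ ∈ S, (χ : H → ℂ) v * (χ : H → ℂ) (v : H)⁻¹ := by
    intro v
    rw [Finset.sum_congr rfl fun t _ => (sum_over hθ hinv _).symm, Finset.sum_comm, ← hS,
      Finset.mul_sum]
    refine Finset.sum_congr rfl fun χ hχ => ?_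
    have hχ' : Ov N θ χ := (Finset.mem_filter.1 hχ).2
    rw [← Finset.mul_sum, sum_conj_mul_hom f χ.2 (isIrr_restrict h hθ hinv hd χ hχ')]
    have := isIrr_apply_one_ne_zero χ.2
    field_simp
  have h2 : ∀ (v : π.ker) (t : K), θ 1 * indFun N θ (f t * v * (f t)⁻¹ * (v : H)⁻¹) =
      if f t * v = v * f t then S.card * d ^ 2 else 0 := by
    intro v t
    split_ifs with hc
    · rw [hc, ← hA]
      congr 2
      group
    · rw [CharactersDeep.NormalInd.indFun_of_not_mem N θ, mul_zero]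
      intro hN
      apply hc
      have h3 : f t * v * (f t)⁻¹ * (v : H)⁻¹ ∈ π.ker :=
        π.ker.mul_mem (Subgroup.Normal.conj_mem inferInstance _ v.2 _) (π.ker.inv_mem v.2)
      have h4 := h.le _ hN
      rw [MonoidHom.mem_ker.1 h3, map_one] at h4
      have h5 : f t * v * (f t)⁻¹ * (v : H)⁻¹ = 1 := h4.symm
      have h6 : f t * v * (f t)⁻¹ = v := mul_inv_eq_one.1 h5
      exact mul_inv_eq_iff_eq_mul.1 h6
  have h3 : ∑ v : π.ker, ∑ t : K, (if f t * v = v * f t then (S.card * d ^ 2 : ℂ) else 0) =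
      Nat.card π.ker * Nat.card K * (S.card * d ^ 2) := by
    have e1 : ∀ v : π.ker, ∑ t : K, (if f t * v = v * f t then (S.card * d ^ 2 : ℂ) else 0) =
        Nat.card K * ∑ χ ∈ S, (χ : H → ℂ) v * (χ : H → ℂ) (v : H)⁻¹ := by
      intro v
      rw [← h1 v]
      exact Finset.sum_congr rfl fun t _ => (h2 v t).symm
    rw [Finset.sum_congr rfl fun v _ => e1 v, ← Finset.mul_sum, Finset.sum_comm,
      Finset.sum_congr rfl fun χ hχ => sum_ker h hθ hinv hd χ (Finset.mem_filter.1 hχ).2,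
      Finset.sum_const, nsmul_eq_mul]
    ring
  have h4 : ∑ y : π.ker × K, (if f y.2 * y.1 = y.1 * f y.2 then (1 : ℕ) else 0) =
      ∑ y : π.ker × K, 1 := by
    have e1 : (∑ y : π.ker × K, (if f y.2 * y.1 = y.1 * f y.2 then (1 : ℂ) else 0)) =
        Nat.card π.ker * Nat.card K := by
      rw [Fintype.sum_prod_type]
      have e2 : ∀ v : π.ker, ∀ t : K, (if f t * v = v * f t then (S.card * d ^ 2 : ℂ) else 0) =
          (S.card * d ^ 2 : ℂ) * (if f t * v = v * f t then (1 : ℂ) else 0) := by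
        intro v t
        split_ifs <;> simp
      simp_rw [e2, ← Finset.mul_sum] at h3
      have h0 : (S.card * d ^ 2 : ℂ) ≠ 0 := mul_ne_zero hSpos (pow_ne_zero 2 hd0)
      rw [mul_comm] at h3
      exact mul_right_cancel₀ h0 h3
    have e3 : ((∑ y : π.ker × K, (if f y.2 * y.1 = y.1 * f y.2 then (1 : ℕ) else 0) : ℕ) : ℂ) =
        ((∑ y : π.ker × K, 1 : ℕ) : ℂ) := by
      push_cast
      rw [e1]
      simp [Nat.card_eq_fintype_card]
    exact_mod_cast e3
  have h5 := (Finset.sum_eq_sum_iff_of_le (fun y _ => by split_ifs <;> simp)).1 h4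
    ((⟨v, hv⟩ : π.ker), k) (Finset.mem_univ _)
  by_contra hc
  simp only [if_neg hc] at h5
  exact absurd h5 (by norm_num)

end Main

end Cfsg.Agent.H700.SplitDeg
end

-- part: H700/SplitCliff
section
/-!
# Characters of split extensions of abelian groups

`π : H → K` with abelian kernel and section `f`.  Every irreducible character of `H` is induced
from the inertia group of a linear character `l` of `π.ker`, and comes from an irreducible character
of the stabilizer of `l` in `K`.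
-/

set_option autoImplicit false

namespace Cfsg.Agent.H700.SplitCliff

open Cfsg Cfsg.Agent.Characters.Core Cfsg.Agent.Characters.Clifford
open Cfsg.Agent.H700.SchurAvg Cfsg.Agent.H700.SplitDeg
open scoped ComplexConjugate

/-- A constituent of a character restricting to a multiple of the irreducible `θ` restricts to a
multiple of `θ`. -/
theorem sub_restrict {X Y : Type*} [Group X] [Group Y] [Fintype X] [Fintype Y] (j : X →* Y)
    {θ : X → ℂ} (hθ : IsIrrCharacter X θ) {χ : Y → ℂ} (hχ : IsCharacter Y χ) {c : ℂ}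
    (hc : ∀ x, χ (j x) = c * θ x) {μ : Y → ℂ} (hμ : IsIrrCharacter Y μ)
    (h : classInner χ μ ≠ 0) : ∃ c' : ℂ, ∀ x, μ (j x) = c' * θ x := by
  classical
  have := finite_irr (G := X)
  have := Fintype.ofFinite (IrrCharacter X)
  have := finite_irr (G := Y)
  have := Fintype.ofFinite (IrrCharacter Y)
  obtain ⟨a, ha, ha'⟩ := CharDeep.CliffordCorr.exists_nat_coeffs hχ
  have hres : ∀ ψ : IrrCharacter Y, IsCharacter X (fun x => (ψ : Y → ℂ) (j x)) := fun ψ =>
    isCharacter_comp j (isIrr_isCharacter ψ.2)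
  have haμ : a ⟨μ, hμ⟩ ≠ 0 := by
    intro h0
    apply h
    have := ha' ⟨μ, hμ⟩
    rw [h0, Nat.cast_zero] at this
    exact this
  have hz : ∀ ζ : IrrCharacter X, (ζ : X → ℂ) ≠ θ →
      classInner (fun x => μ (j x)) (ζ : X → ℂ) = 0 := by
    intro ζ hζ
    choose b hb using fun ψ : IrrCharacter Y => classInner_isNat (hres ψ) (isIrr_isCharacter ζ.2)
    have h2 : classInner (fun x => χ (j x)) (ζ : X → ℂ) = 0 := by
      have h3 : (fun x => χ (j x)) = c • θ := by
        funext x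
        rw [hc]
        rfl
      rw [h3, classInner_smul_left, classInner_irr_ne hθ ζ.2 (fun h => hζ h.symm), mul_zero]
    have h3 : (fun x => χ (j x)) = ∑ ψ : IrrCharacter Y,
        (a ψ : ℂ) • (fun x => (ψ : Y → ℂ) (j x)) := by
      funext x
      have h4 := congrFun ha (j x)
      simp only [Finset.sum_apply, Pi.smul_apply, smul_eq_mul] at h4 ⊢
      exact h4
    rw [h3, classInner_sum_left] at h2
    simp_rw [classInner_smul_left, hb] at h2
    have h4 : ∑ ψ : IrrCharacter Y, a ψ * b ψ = 0 := by exact_mod_cast h2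
    have h5 := (Finset.sum_eq_zero_iff.1 h4) ⟨μ, hμ⟩ (Finset.mem_univ _)
    have h6 := (Nat.mul_eq_zero.1 h5).resolve_left haμ
    have h7 := hb ⟨μ, hμ⟩
    rw [h6, Nat.cast_zero] at h7
    exact h7
  refine ⟨classInner (fun x => μ (j x)) θ, fun x => ?_⟩
  have h7 := classFunction_eq_sum (isCharacter_isClassFunction (hres ⟨μ, hμ⟩))
  rw [Finset.sum_eq_single (⟨θ, hθ⟩ : IrrCharacter X)] at h7
  · exact congrFun h7 x
  · intro ζ _ hζ
    have h8 := hz ζ (fun h => hζ (Subtype.ext h))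
    show classInner (fun x => μ (j x)) (ζ : X → ℂ) • (ζ : X → ℂ) = 0
    rw [h8, zero_smul]
  · intro h
    exact absurd (Finset.mem_univ _) h

variable {H K : Type*} [Group H] [Group K] (f : K →* H) (π : H →* K)

/-- The stabilizer in `K` of the linear character `l` of `π.ker`. -/
def stab (l : π.ker →* ℂˣ) : Subgroup K where
  carrier := {k | ∀ v : π.ker, l (MulAut.conjNormal (f k) v) = l v}
  mul_mem' := by
    intro a b ha hb v
    rw [map_mul, map_mul, MulAut.mul_apply, ha, hb]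
  one_mem' := by
    intro v
    rw [map_one, map_one, MulAut.one_apply]
  inv_mem' := by
    intro a ha v
    have := ha (MulAut.conjNormal (f a⁻¹) v)
    rw [← MulAut.mul_apply, ← map_mul, ← map_mul, mul_inv_cancel, map_one, map_one,
      MulAut.one_apply] at this
    exact this.symm

variable {f π}

theorem mem_stab {l : π.ker →* ℂˣ} {k : K} :
    k ∈ stab f π l ↔ ∀ v : π.ker, l (MulAut.conjNormal (f k) v) = l v := Iff.rfl

/-- The inertia group in `H`. -/
theorem mem_inertia (hsec : ∀ k, π (f k) = k)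
    (hcomm : ∀ a ∈ π.ker, ∀ b ∈ π.ker, a * b = b * a) (l : π.ker →* ℂˣ) (x : H) :
    x ∈ (stab f π l).comap π ↔ ∀ v : π.ker, l (MulAut.conjNormal x v) = l v := by
  rw [Subgroup.mem_comap, mem_stab]
  have h1 : ∀ v : π.ker, (MulAut.conjNormal x v : π.ker) =
      MulAut.conjNormal (f (π x)) v := by
    intro v
    apply Subtype.ext
    rw [MulAut.conjNormal_apply, MulAut.conjNormal_apply]
    have hk : x * (f (π x))⁻¹ ∈ π.ker := by
      rw [MonoidHom.mem_ker, map_mul, map_inv, hsec, mul_inv_cancel]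
    have hv : f (π x) * v * (f (π x))⁻¹ ∈ π.ker := Subgroup.Normal.conj_mem inferInstance _ v.2 _
    calc x * (v : H) * x⁻¹ = (x * (f (π x))⁻¹) * (f (π x) * v * (f (π x))⁻¹) *
          (x * (f (π x))⁻¹)⁻¹ := by group
      _ = f (π x) * v * (f (π x))⁻¹ := by rw [hcomm _ hk _ hv]; group
  simp only [h1]

theorem exists_stab [Fintype H] [Fintype K] (hsec : ∀ k, π (f k) = k)
    (hcomm : ∀ a ∈ π.ker, ∀ b ∈ π.ker, a * b = b * a) {χ : H → ℂ} (hχ : IsIrrCharacter H χ)
    (N : Subgroup H) (hN : N ≤ Subgroup.centralizer (π.ker : Set H)) [N.Normal] [Fintype N]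
    {θ : N → ℂ} (hθ : IsIrrCharacter N θ)
    (hinv : ∀ g : H, θ ∘ (MulAut.conjNormal g : MulAut N) = θ) (hov : Ov N θ χ) :
    ∃ (l : π.ker →* ℂˣ) (ψ : stab f π l → ℂ), IsIrrCharacter (stab f π l) ψ ∧
      χ 1 = (stab f π l).index * ψ 1 ∧
      ∃ c : ℂ, ∀ (k : stab f π l) (hk : f k ∈ N), ψ k = c * θ ⟨f k, hk⟩ := by
  classical
  have := finite_irr (G := π.ker)
  have := Fintype.ofFinite (IrrCharacter π.ker)
  -- a constituent of the restriction to the kernel
  obtain ⟨lam, hlam⟩ := Blocks.Fong.exists_constituent π.ker ⟨χ, hχ⟩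
  obtain ⟨l, hl⟩ := Characters.CCBasic.exists_hom_of_comm
    (fun a b : π.ker => Subtype.ext (hcomm a a.2 b b.2)) lam.2
  have hkn : π.ker.Normal := inferInstance
  have hT : ∀ g : H, g ∈ (stab f π l).comap π ↔
      ∀ n : π.ker, (lam : π.ker → ℂ) ⟨g * (n : H) * g⁻¹, hkn.conj_mem (n : H) n.2 g⟩ =
        (lam : π.ker → ℂ) n := by
    intro g
    rw [mem_inertia hsec hcomm, hl]
    constructor
    · intro h n
      have := h n
      exact congrArg Units.val this
    · intro h n
      exact Units.ext (h n)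
  have hle : π.ker ≤ (stab f π l).comap π := by
    intro x hx
    rw [Subgroup.mem_comap, MonoidHom.mem_ker.1 hx]
    exact Subgroup.one_mem _
  set I := (stab f π l).comap π with hI
  have := Fintype.ofFinite I
  obtain ⟨μ, hμ, hind, hmul⟩ := CharDeep.CliffordCorr.clifford_correspondence π.ker
    (lam : π.ker → ℂ) lam.2 I hT hle χ hχ hlam
  -- the structure of `I`
  let πI : I →* stab f π l := π.subgroupComap (stab f π l)
  have hπI : ∀ x : I, ((πI x : stab f π l) : K) = π x := fun x => rfl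
  let fI : stab f π l →* I :=
    { toFun := fun k => ⟨f k, by rw [hI, Subgroup.mem_comap, hsec]; exact k.2⟩
      map_one' := by
        apply Subtype.ext
        simp
      map_mul' := fun a b => by
        apply Subtype.ext
        simp }
  have hfI : ∀ k : stab f π l, ((fI k : I) : H) = f k := fun k => rfl
  have hsecI : ∀ k, πI (fI k) = k := fun k => Subtype.ext (by rw [hπI, hfI, hsec])
  let j : πI.ker →* π.ker :=
    { toFun := fun n => ⟨((n : I) : H), by
        rw [MonoidHom.mem_ker, ← hπI, MonoidHom.mem_ker.1 n.2]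
        rfl⟩
      map_one' := rfl
      map_mul' := fun a b => rfl }
  have hj : ∀ n : πI.ker, ((j n : π.ker) : H) = ((n : I) : H) := fun n => rfl
  have hjb : Function.Bijective j := by
    constructor
    · intro a b hab
      apply Subtype.ext
      apply Subtype.ext
      rw [← hj, ← hj, hab]
    · intro v
      refine ⟨⟨⟨(v : H), hle v.2⟩, ?_⟩, rfl⟩
      rw [MonoidHom.mem_ker]
      apply Subtype.ext
      rw [hπI]
      exact MonoidHom.mem_ker.1 v.2
  let e : πI.ker ≃* π.ker := MulEquiv.ofBijective j hjb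
  have hθ' : IsIrrCharacter πI.ker (fun n => (lam : π.ker → ℂ) (j n)) :=
    isIrr_comp j hjb.2 lam.2
  have hinv' : ∀ g : I, (fun n => (lam : π.ker → ℂ) (j n)) ∘
      (MulAut.conjNormal g : MulAut πI.ker) = fun n => (lam : π.ker → ℂ) (j n) := by
    intro g
    funext n
    have h1 := (hT g).1 g.2 (j n)
    simp only [Function.comp]
    rw [← h1]
    congr 1
  have hov' : Ov πI.ker (fun n => (lam : π.ker → ℂ) (j n)) μ := by
    intro h0
    apply hlam
    rw [← hmul, ← h0]
    exact (classInner_comp_mulEquiv e (fun n : π.ker => μ ⟨(n : H), hle n.2⟩)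
      (lam : π.ker → ℂ)).symm
  have hμv : ∀ (v : πI.ker) (y : I), μ ((v : I) * y) = (l (j v) : ℂ) * μ y := by
    intro v y
    have h1 := sum_theta_mul hθ' hinv' hμ hov' y
    have h2 := sum_theta_mul hθ' hinv' hμ hov' ((v : I) * y)
    have hl1 : (lam : π.ker → ℂ) (j 1) = 1 := by
      rw [hl]
      simp
    rw [hl1, div_one] at h1 h2
    have h3 : ∑ m : πI.ker, (lam : π.ker → ℂ) (j m⁻¹) * μ ((m : I) * ((v : I) * y)) =
        (l (j v) : ℂ) * ∑ m : πI.ker, (lam : π.ker → ℂ) (j m⁻¹) * μ ((m : I) * y) := by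
      rw [Finset.mul_sum]
      refine Fintype.sum_equiv (Equiv.mulRight v) _ _ fun m => ?_
      simp only [Equiv.coe_mulRight, mul_inv_rev, map_mul, hl, Units.val_mul, Subgroup.coe_mul,
        mul_assoc]
      rw [← mul_assoc (l (j v) : ℂ), ← Units.val_mul, ← map_mul, ← map_mul, mul_inv_cancel,
        map_one, map_one, Units.val_one, one_mul]
    rw [h3, h1] at h2
    have hc0 : (Nat.card πI.ker : ℂ) ≠ 0 := by exact_mod_cast Nat.card_pos.ne'
    have h4 : (Nat.card πI.ker : ℂ) * μ ((v : I) * y) =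
        (Nat.card πI.ker : ℂ) * ((l (j v) : ℂ) * μ y) := by
      rw [← h2]
      ring
    exact mul_left_cancel₀ hc0 h4
  have hψc : IsCharacter (stab f π l) (fun k => μ (fI k)) :=
    isCharacter_comp fI (isIrr_isCharacter hμ)
  have hψ : IsIrrCharacter (stab f π l) (fun k => μ (fI k)) := by
    rw [isIrr_iff_classInner_self hψc]
    have h1 := sum_mul_inv hμ
    rw [sum_eq' hsecI] at h1
    have h2 : ∀ (k : stab f π l) (v : πI.ker), μ ((v : I) * fI k) * μ ((v : I) * fI k)⁻¹ =
        μ (fI k) * μ (fI k)⁻¹ := by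
      intro k v
      have h3 : μ ((v : I) * fI k)⁻¹ = μ (((v⁻¹ : πI.ker) : I) * (fI k)⁻¹) := by
        have h4 := isIrr_isClassFunction hμ (((v⁻¹ : πI.ker) : I) * (fI k)⁻¹) (fI k)⁻¹
        rw [← h4]
        congr 1
        simp only [Subgroup.coe_inv]
        group
      rw [h3, hμv, hμv, map_inv, map_inv, Units.val_inv_eq_inv_val]
      have := (l (j v)).ne_zero
      field_simp
    simp_rw [h2, Finset.sum_const, Finset.card_univ, nsmul_eq_mul,
      ← Nat.card_eq_fintype_card] at h1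
    rw [← Finset.mul_sum] at h1
    have hcard : (Nat.card I : ℂ) = Nat.card πI.ker * Nat.card (stab f π l) := by
      have h5 := sum_eq' hsecI (fun _ => (1 : ℂ))
      simp only [Finset.sum_const, Finset.card_univ, nsmul_eq_mul, mul_one,
        ← Nat.card_eq_fintype_card] at h5
      rw [h5, mul_comm]
    rw [hcard] at h1
    have hc0 : (Nat.card πI.ker : ℂ) ≠ 0 := by exact_mod_cast Nat.card_pos.ne'
    have h6 := mul_left_cancel₀ hc0 h1
    unfold classInner
    have h7 : ∑ k : stab f π l, μ (fI k) * conj (μ (fI k)) = Nat.card (stab f π l) := by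
      rw [← h6]
      refine Finset.sum_congr rfl fun k _ => ?_
      rw [isCharacter_apply_inv (isIrr_isCharacter hμ)]
    rw [h7, inv_mul_cancel₀]
    exact_mod_cast Nat.card_pos.ne'
  refine ⟨l, _, hψ, ?_, ?_⟩
  · have hidx : I.index = (stab f π l).index :=
      Subgroup.index_comap_of_surjective _ (fun k => ⟨f k, hsec k⟩)
    rw [map_one, ← hind, CharactersDeep.NormalInd.indFun_one, hidx]
  · have hNI : N ≤ I := by
      intro n hn
      rw [hI, mem_inertia hsec hcomm]
      intro v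
      congr 1
      apply Subtype.ext
      rw [MulAut.conjNormal_apply]
      have := Subgroup.mem_centralizer_iff.1 (hN hn) v v.2
      rw [← this]
      group
    obtain ⟨c, hc⟩ := sub_restrict (Subgroup.inclusion hNI) hθ
      (isCharacter_comp I.subtype (isIrr_isCharacter hχ)) (c := χ 1 / θ 1)
      (fun n => over_apply hθ hinv hχ hov n) hμ (by
        intro h0
        have h1 := CharactersDeep.NormalInd.classInner_indFun I μ χ (isIrr_isClassFunction hχ)
        rw [hind, classInner_irr_self hχ, ← classInner_conj_symm] at h1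
        have h2 : classInner (fun h : I => χ h) μ = 0 := h0
        rw [h2, map_zero] at h1
        exact one_ne_zero h1)
    refine ⟨c, fun k hk => ?_⟩
    have := hc ⟨f k, hk⟩
    rw [← this]
    rfl

/-- If all `|K : K_l| ψ(1)`, with `l` a linear character of `π.ker` and `ψ` an irreducible character
of its stabilizer over `θ`, are equal, then `K` centralizes `π.ker`. -/
theorem centralizes_of_stab [Fintype H] [Fintype K] {N : Subgroup H} [N.Normal] [Fintype N]
    (h : Setup f π N) {θ : N → ℂ} (hθ : IsIrrCharacter N θ)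
    (hinv : ∀ g : H, θ ∘ (MulAut.conjNormal g : MulAut N) = θ) {d : ℂ}
    (hd : ∀ (l : π.ker →* ℂˣ) (ψ : stab f π l → ℂ), IsIrrCharacter (stab f π l) ψ →
      (∃ c : ℂ, ∀ (k : stab f π l) (hk : f k ∈ N), ψ k = c * θ ⟨f k, hk⟩) →
      (stab f π l).index * ψ 1 = d) (k : K) (v : H) (hv : v ∈ π.ker) : f k * v = v * f k := by
  refine centralizes h hθ hinv (d := d) (fun χ hχ => ?_) k v hv
  obtain ⟨l, ψ, hψ, h1, h2⟩ := exists_stab h.sec h.comm χ.2 N (fun n hn => by
    rw [Subgroup.mem_centralizer_iff]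
    intro v hv
    exact (h.cen n hn v hv).symm) hθ hinv hχ
  rw [h1]
  exact hd l ψ hψ h2

end Cfsg.Agent.H700.SplitCliff
end

-- part: H700/NormInertia
section
/-!
# A block with normal defect group: inertia groups and characters over the canonical character
-/

set_option autoImplicit false

namespace Cfsg.Agent.H700.NormInertia

open Cfsg Cfsg.Agent.Characters.Core Cfsg.Agent.Characters.Clifford
open Cfsg.Agent.Blocks.CentralProduct
open Cfsg.Agent.H700.NormData Cfsg.Agent.H700.SchurAvg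
open scoped ComplexConjugate

universe u

variable {G : Type u} [Group G] {p : ℕ} {M : Ideal AlgInt}

/-- The inertia group of `θ`. -/
def inertia (N : Subgroup G) [N.Normal] (θ : N → ℂ) : Subgroup G where
  carrier := {g | ∀ n : N, θ (MulAut.conjNormal g n) = θ n}
  mul_mem' := by
    intro a b ha hb n
    rw [map_mul, MulAut.mul_apply, ha, hb]
  one_mem' := by
    intro n
    rw [map_one, MulAut.one_apply]
  inv_mem' := by
    intro a ha n
    have := ha (MulAut.conjNormal a⁻¹ n)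
    rw [← MulAut.mul_apply, ← map_mul, mul_inv_cancel, map_one, MulAut.one_apply] at this
    exact this.symm

theorem mem_inertia {N : Subgroup G} [N.Normal] {θ : N → ℂ} {g : G} :
    g ∈ inertia N θ ↔ ∀ n : N, θ (MulAut.conjNormal g n) = θ n := Iff.rfl

theorem le_inertia {N : Subgroup G} [N.Normal] {θ : N → ℂ} (hθ : IsClassFunction N θ) :
    N ≤ inertia N θ := by
  intro g hg
  rw [mem_inertia]
  intro n
  have h1 := hθ n ⟨g, hg⟩
  rw [← h1]
  congr 1

variable {B : Set (IrrCharacter G)} {D N : Subgroup G} [hDn : D.Normal] [hNn : N.Normal]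
  {b : Set (IrrCharacter N)} {θ : IrrCharacter N}

omit [hNn : N.Normal] in
theorem mem_inertia_lin {w : D →* ℂˣ} {g : G} :
    g ∈ inertia D (fun u => (w u : ℂ)) ↔ ∀ u : D, w (MulAut.conjNormal g u) = w u := by
  rw [mem_inertia]
  exact ⟨fun h u => Units.ext (h u), fun h u => congrArg Units.val (h u)⟩

omit [hNn : N.Normal] in
/-- `N` fixes the linear characters of `D`. -/
theorem Data.le_inertia_lin (h : Data p M B D N b θ) (w : D →* ℂˣ) :
    N ≤ inertia D (fun u => (w u : ℂ)) := by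
  intro n hn
  rw [mem_inertia_lin]
  intro u
  obtain ⟨d, hd, c, hc, rfl⟩ := exists_mul h.eqN hn
  have h1 : MulAut.conjNormal (d * c) u = (⟨d, hd⟩ : D) * u * (⟨d, hd⟩ : D)⁻¹ := by
    apply Subtype.ext
    rw [MulAut.conjNormal_apply]
    have h2 := Subgroup.mem_centralizer_iff.1 hc u u.2
    simp only [Subgroup.coe_mul, Subgroup.coe_inv]
    calc d * c * (u : G) * (d * c)⁻¹ = d * (c * u) * c⁻¹ * d⁻¹ := by group
      _ = d * (u * c) * c⁻¹ * d⁻¹ := by rw [h2]
      _ = d * u * d⁻¹ := by group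
  rw [h1, map_mul, map_mul, map_inv, mul_comm, ← mul_assoc, inv_mul_cancel, one_mul]

theorem orderOf_conjNormal (N : Subgroup G) [N.Normal] (g : G) (y : N) :
    orderOf (MulAut.conjNormal g y : N) = orderOf y := (MulAut.conjNormal g).orderOf_eq y

theorem prodSet_conj (g : G) {n : N} (hn : n ∈ prodSet p (D.subgroupOf N)) :
    MulAut.conjNormal g n ∈ prodSet p (D.subgroupOf N) := by
  obtain ⟨u, hu, y, hy, rfl⟩ := hn
  refine ⟨MulAut.conjNormal g u, ?_, MulAut.conjNormal g y, ?_, map_mul _ _ _⟩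
  · rw [Subgroup.mem_subgroupOf, MulAut.conjNormal_apply]
    exact hDn.conj_mem _ (Subgroup.mem_subgroupOf.1 hu) g
  · rwa [orderOf_conjNormal]

theorem prodSet_conj_iff (g : G) (n : N) : MulAut.conjNormal g n ∈ prodSet p (D.subgroupOf N) ↔
    n ∈ prodSet p (D.subgroupOf N) := by
  refine ⟨fun h => ?_, prodSet_conj g⟩
  have := prodSet_conj (p := p) g⁻¹ h
  rwa [← MulAut.mul_apply, ← map_mul, inv_mul_cancel, map_one, MulAut.one_apply] at this

variable [Finite G] [Fact p.Prime]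

/-- The inertia group of the twisted canonical character. -/
theorem Data.mem_inertia_twist (hM : IsPModular p M) (h : Data p M B D N b θ) (w : D →* ℂˣ)
    {φ : IrrCharacter N} (hφ1 : ∀ (u : G) (hu : u ∈ D) (y : N), ¬ p ∣ orderOf y →
      (φ : N → ℂ) (⟨u, h.le hu⟩ * y) = (w ⟨u, hu⟩ : ℂ) * (θ : N → ℂ) y)
    (hφ0 : ∀ g : N, g ∉ prodSet p (D.subgroupOf N) → (φ : N → ℂ) g = 0) (g : G) :
    g ∈ inertia N (φ : N → ℂ) ↔
      g ∈ inertia N (θ : N → ℂ) ∧ g ∈ inertia D (fun u => (w u : ℂ)) := by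
  have hp1 : ¬ p ∣ orderOf (1 : N) := not_dvd_orderOf_one
  have hconj : ∀ (u : G) (hu : u ∈ D) (y : N), MulAut.conjNormal g (⟨u, h.le hu⟩ * y) =
      ⟨g * u * g⁻¹, h.le (hDn.conj_mem u hu g)⟩ * MulAut.conjNormal g y := by
    intro u hu y
    rw [map_mul]
    congr 1
  have hwconj : ∀ (u : G) (hu : u ∈ D), (MulAut.conjNormal g (⟨u, hu⟩ : D) : D) =
      ⟨g * u * g⁻¹, hDn.conj_mem u hu g⟩ := by
    intro u hu
    apply Subtype.ext
    rw [MulAut.conjNormal_apply]
  constructor
  · intro hg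
    rw [mem_inertia] at hg
    have hreg : ∀ y : N, ¬ p ∣ orderOf y →
        (θ : N → ℂ) (MulAut.conjNormal g y) = (θ : N → ℂ) y := by
      intro y hy
      have h1 := hg (⟨1, h.le D.one_mem⟩ * y)
      rw [hconj 1 D.one_mem, hφ1 1 D.one_mem y hy,
        hφ1 (g * 1 * g⁻¹) (hDn.conj_mem 1 D.one_mem g) _ (by rwa [orderOf_conjNormal])] at h1
      have h2 : (⟨g * 1 * g⁻¹, hDn.conj_mem 1 D.one_mem g⟩ : D) = 1 := by
        apply Subtype.ext
        simp
      have h3 : (⟨1, D.one_mem⟩ : D) = 1 := rfl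
      rw [h2, h3, map_one, Units.val_one, one_mul, one_mul] at h1
      exact h1
    refine ⟨?_, ?_⟩
    · rw [mem_inertia]
      intro n
      by_cases hn : n ∈ prodSet p (D.subgroupOf N)
      · obtain ⟨u, hu, y, hy, rfl⟩ := hn
        have hu' := Subgroup.mem_subgroupOf.1 hu
        have e : u = ⟨(u : G), h.le hu'⟩ := rfl
        rw [e, hconj _ hu', h.apply_mul hM _ hu' y hy,
          h.apply_mul hM _ (hDn.conj_mem _ hu' g) _ (by rwa [orderOf_conjNormal]), hreg y hy]
      · rw [(h.exists_eq hM h.mem).2 n hn, (h.exists_eq hM h.mem).2 _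
          (by rwa [prodSet_conj_iff])]
    · rw [mem_inertia_lin]
      rintro ⟨u, hu⟩
      have h1 := hg (⟨u, h.le hu⟩ * 1)
      rw [hconj u hu, hφ1 u hu 1 hp1, hφ1 _ (hDn.conj_mem u hu g) _ (by rwa [orderOf_conjNormal]),
        map_one, ← hwconj u hu] at h1
      exact Units.ext (mul_right_cancel₀ (isIrr_apply_one_ne_zero θ.2) h1)
  · rintro ⟨hg1, hg2⟩
    rw [mem_inertia] at hg1 ⊢
    rw [mem_inertia_lin] at hg2
    intro n
    by_cases hn : n ∈ prodSet p (D.subgroupOf N)
    · obtain ⟨u, hu, y, hy, rfl⟩ := hn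
      have hu' := Subgroup.mem_subgroupOf.1 hu
      have e : u = ⟨(u : G), h.le hu'⟩ := rfl
      rw [e, hconj _ hu', hφ1 _ hu' y hy, hφ1 _ (hDn.conj_mem _ hu' g) _ (by rwa [orderOf_conjNormal]),
        ← hwconj _ hu', hg2, hg1]
    · rw [hφ0 n hn, hφ0 _ (by rwa [prodSet_conj_iff])]

omit [Finite G] in
/-- The characters of `G` over a member of `b` lie in `B`. -/
theorem Data.mem_of_over [Fintype G] [Fintype N] (hM : IsPModular p M) (hB : IsPBlock M B)
    (h : Data p M B D N b θ) {φ : IrrCharacter N} (hφ : φ ∈ b) {χ : IrrCharacter G}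
    (hχ : classInner (fun n : N => (χ : G → ℂ) n) (φ : N → ℂ) ≠ 0) : χ ∈ B := by
  have hprime : M.IsPrime := hM.2.1.isPrime
  obtain ⟨χ₀, hχ₀, h0⟩ := S0934.result p M hM N b B h.ind θ h.mem
  have hU := H646.UCov.ucov_of_centralizer_le hM D h.isPGroup N h.centralizer_le
  have h1 := hU θ φ (Blocks.Basic.isPBlock_sameBlock h.blk h.mem hφ) χ₀ χ h0 hχ
  exact Blocks.Basic.isPBlock_mem_of_sameBlock hB hχ₀ h1

omit [Finite G] [Fact p.Prime] hDn hNn in
/-- The character induced from an irreducible `ψ` of `S` over `φ` lies over `φ`. -/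
theorem over_indFun [Fintype G] [Fintype N] {S : Subgroup G} (hNS : N ≤ S) [Fintype S]
    {ψ : S → ℂ} (hψ : IsIrrCharacter S ψ) {φ : N → ℂ} (hφ : IsIrrCharacter N φ)
    (hover : classInner (fun n : N => ψ ⟨n, hNS n.2⟩) φ ≠ 0)
    (hirr : IsIrrCharacter G (indFun S ψ)) :
    classInner (fun n : N => indFun S ψ n) φ ≠ 0 := by
  classical
  have := finite_irr (G := S)
  have := Fintype.ofFinite (IrrCharacter S)
  obtain ⟨a, ha, ha'⟩ := CharDeep.CliffordCorr.exists_nat_coeffs
    (isCharacter_comp S.subtype (isIrr_isCharacter hirr))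
  have haψ : a ⟨ψ, hψ⟩ ≠ 0 := by
    intro h0
    have h1 := ha' ⟨ψ, hψ⟩
    rw [h0, Nat.cast_zero] at h1
    have h2 := CharactersDeep.NormalInd.classInner_indFun S ψ (indFun S ψ)
      (isIrr_isClassFunction hirr)
    rw [classInner_irr_self hirr, ← classInner_conj_symm] at h2
    have h3 : classInner (fun h : S => indFun S ψ h) ψ = 0 := h1
    rw [h3, map_zero] at h2
    exact one_ne_zero h2
  have hres : ∀ η : IrrCharacter S, IsCharacter N (fun n : N => (η : S → ℂ) ⟨n, hNS n.2⟩) :=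
    fun η => isCharacter_comp (Subgroup.inclusion hNS) (isIrr_isCharacter η.2)
  choose k hk using fun η : IrrCharacter S => classInner_isNat (hres η) (isIrr_isCharacter hφ)
  have h3 : (fun n : N => indFun S ψ n) = ∑ η : IrrCharacter S,
      (a η : ℂ) • (fun n : N => (η : S → ℂ) ⟨n, hNS n.2⟩) := by
    funext n
    have h4 := congrFun ha ⟨(n : G), hNS n.2⟩
    simp only [Finset.sum_apply, Pi.smul_apply, smul_eq_mul] at h4 ⊢
    exact h4
  rw [h3, classInner_sum_left]
  simp_rw [classInner_smul_left, hk]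
  intro h4
  have h5 : ∑ η : IrrCharacter S, a η * k η = 0 := by exact_mod_cast h4
  have h6 := (Finset.sum_eq_zero_iff.1 h5) ⟨ψ, hψ⟩ (Finset.mem_univ _)
  have h7 := (Nat.mul_eq_zero.1 h6).resolve_left haψ
  apply hover
  have h8 := hk ⟨ψ, hψ⟩
  rw [h7, Nat.cast_zero] at h8
  exact h8

end Cfsg.Agent.H700.NormInertia
end

-- part: H700/SplitSemi
section
/-!
# A criterion for a `p'`-group of automorphisms to be trivial

`T` is a finite group with normal `p`-subgroup `D`, and `N` the subgroup of the elements acting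
trivially on `D/D'`.
-/

set_option autoImplicit false

namespace Cfsg.Agent.H700.SplitSemi

open Cfsg Cfsg.Agent.Characters.Core
open Cfsg.Agent.H700.SchurAvg Cfsg.Agent.H700.SplitDeg Cfsg.Agent.H700.SplitCliff

variable {T : Type*} [Group T] (D : Subgroup T) [D.Normal]

/-- The action on the abelianization of a normal subgroup. -/
def act : T →* MulAut (Abelianization D) where
  toFun t := (MulAut.conjNormal t : MulAut D).abelianizationCongr
  map_one' := by
    ext a
    induction a using QuotientGroup.induction_on with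
    | H u => 
      rw [map_one]
      rfl
  map_mul' a b := by
    ext x
    induction x using QuotientGroup.induction_on with
    | H u => 
      rw [map_mul]
      rfl

theorem act_of (t : T) (u : D) :
    act D t (Abelianization.of u) = Abelianization.of (MulAut.conjNormal t u) := rfl

variable {D}

/-- Main result. -/
theorem main [Fintype T] {p : ℕ} (hp : p.Prime) (hD : IsPGroup p D) (N : Subgroup T) [N.Normal]
    [Fintype N] (hN : ∀ t : T, t ∈ N ↔
      ∀ u : D, (Abelianization.of (MulAut.conjNormal t u : D) : Abelianization D) =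
        Abelianization.of u)
    (hidx : ¬ p ∣ N.index) {θ : N → ℂ} (hθ : IsIrrCharacter N θ)
    (hinv : ∀ g : T, θ ∘ (MulAut.conjNormal g : MulAut N) = θ) {d : ℂ}
    (hd : ∀ (w : D →* ℂˣ) (S : Subgroup T),
      (∀ t : T, t ∈ S ↔ ∀ u : D, w (MulAut.conjNormal t u) = w u) →
      ∀ ψ : S → ℂ, IsIrrCharacter S ψ →
        (∃ c : ℂ, ∀ (k : S) (hk : (k : T) ∈ N), ψ k = c * θ ⟨k, hk⟩) → S.index * ψ 1 = d) :
    N = ⊤ := by
  classical
  have : Finite (Abelianization D) := inferInstance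
  let A := Abelianization D
  let H := A ⋊[act D] T
  have hfin : Finite H := Finite.of_equiv _ SemidirectProduct.equivProd.symm
  have : Fintype H := Fintype.ofFinite H
  let f : T →* H := SemidirectProduct.inr
  let π : H →* T := SemidirectProduct.rightHom
  have hsec : ∀ k, π (f k) = k := fun k => SemidirectProduct.rightHom_inr k
  have hker : ∀ v ∈ π.ker, ∃ a : A, v = SemidirectProduct.inl a := by
    intro v hv
    refine ⟨v.left, ?_⟩
    have h1 : v.right = 1 := MonoidHom.mem_ker.1 hv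
    ext
    · simp
    · simp [h1]
  have hinl : ∀ a : A, (SemidirectProduct.inl a : H) ∈ π.ker := fun a => by
    rw [MonoidHom.mem_ker]
    exact SemidirectProduct.rightHom_inl a
  have hact : ∀ t : T, t ∈ N ↔ ∀ a : A, act D t a = a := by
    intro t
    rw [hN]
    constructor
    · intro h a
      obtain ⟨u, rfl⟩ := QuotientGroup.mk_surjective a
      exact h u
    · intro h u
      exact h (Abelianization.of u)
  have hconj : ∀ (t : T) (a : A), f t * (SemidirectProduct.inl a : H) * (f t)⁻¹ =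
      SemidirectProduct.inl (act D t a) := fun t a => by
    rw [← map_inv]
    exact (SemidirectProduct.inl_aut t a).symm
  have hcommN : ∀ n ∈ N, ∀ a : A, f n * (SemidirectProduct.inl a : H) =
      SemidirectProduct.inl a * f n := by
    intro n hn a
    have := hconj n a
    rw [(hact n).1 hn] at this
    exact mul_inv_eq_iff_eq_mul.1 this
  let N' : Subgroup H := N.map f
  have hN' : N'.Normal := by
    constructor
    rintro _ ⟨n, hn, rfl⟩ g
    have hn' : g.right * n * g.right⁻¹ ∈ N := Subgroup.Normal.conj_mem inferInstance n hn _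
    refine ⟨g.right * n * g.right⁻¹, hn', ?_⟩
    have h1 : g = SemidirectProduct.inl g.left * f g.right :=
      (SemidirectProduct.inl_left_mul_inr_right g).symm
    have h2 := hcommN _ hn' g.left
    conv_rhs => rw [h1]
    calc f (g.right * n * g.right⁻¹)
        = f (g.right * n * g.right⁻¹) * SemidirectProduct.inl g.left *
            (SemidirectProduct.inl g.left)⁻¹ := by group
      _ = SemidirectProduct.inl g.left * f (g.right * n * g.right⁻¹) *
            (SemidirectProduct.inl g.left)⁻¹ := by rw [h2]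
      _ = SemidirectProduct.inl g.left * f g.right * f n *
            (SemidirectProduct.inl g.left * f g.right)⁻¹ := by
          rw [map_mul, map_mul, map_inv]
          group
  have := Fintype.ofFinite N'
  have hsetup : Setup f π N' := by
    refine ⟨hsec, ?_, ?_, ?_, ?_, ?_⟩
    · intro a ha b hb
      obtain ⟨a, rfl⟩ := hker a ha
      obtain ⟨b, rfl⟩ := hker b hb
      rw [← map_mul, ← map_mul, mul_comm]
    · rintro _ ⟨n, hn, rfl⟩
      rw [hsec]
    · rintro _ ⟨n, hn, rfl⟩ v hv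
      obtain ⟨a, rfl⟩ := hker v hv
      exact hcommN n hn a
    · intro k hk
      refine ⟨k, (hact k).2 fun a => ?_, rfl⟩
      have h1 := hk _ (hinl a)
      have h2 := hconj k a
      rw [h1, mul_inv_cancel_right] at h2
      exact (SemidirectProduct.inl_injective h2).symm
    · intro k
      refine ⟨N.index, ?_, ?_⟩
      · have hA : IsPGroup p A := hD.to_quotient _
        have hpk : IsPGroup p π.ker := by
          intro v
          obtain ⟨a, ha⟩ := hker v v.2
          obtain ⟨k, hk⟩ := hA a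
          refine ⟨k, Subtype.ext ?_⟩
          rw [Subgroup.coe_pow, ha, ← map_pow, hk, map_one]
          rfl
        have : Fact p.Prime := ⟨hp⟩
        obtain ⟨m, hm⟩ := IsPGroup.iff_card.1 hpk
        rw [hm]
        exact Nat.Coprime.pow_right m ((Nat.Prime.coprime_iff_not_dvd hp).2 hidx).symm
      · rw [← map_pow]
        exact ⟨_, Subgroup.pow_index_mem N k, rfl⟩
  -- the character
  let j : N' →* N :=
    { toFun := fun n => ⟨π n, by
        obtain ⟨m, hm, hm'⟩ := n.2
        rw [← hm', hsec]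
        exact hm⟩
      map_one' := rfl
      map_mul' := fun a b => rfl }
  have hj : ∀ n : N', ((j n : N) : T) = π n := fun n => rfl
  have hjs : Function.Surjective j := by
    intro n
    exact ⟨⟨f n, n, n.2, rfl⟩, Subtype.ext (hsec _)⟩
  have hθ' : IsIrrCharacter N' (fun n => θ (j n)) := isIrr_comp j hjs hθ
  have hinv' : ∀ g : H, (fun n => θ (j n)) ∘ (MulAut.conjNormal g : MulAut N') =
      fun n => θ (j n) := by
    intro g
    funext n
    have h1 := congrFun (hinv (π g)) (j n)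
    simp only [Function.comp] at h1 ⊢
    rw [← h1]
    congr 1
  have hcen := centralizes_of_stab hsetup hθ' hinv' (d := d) (by
    intro l ψ hψ hc
    let w : D →* ℂˣ := l.comp ((SemidirectProduct.inl.codRestrict π.ker hinl).comp
      Abelianization.of)
    have hw : ∀ u : D, w u = l ⟨SemidirectProduct.inl (Abelianization.of u), hinl _⟩ :=
      fun u => rfl
    refine hd w (stab f π l) ?_ ψ hψ ?_
    · intro t
      rw [mem_stab]
      constructor
      · intro h u
        rw [hw, hw, ← h ⟨SemidirectProduct.inl (Abelianization.of u), hinl _⟩]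
        congr 1
        apply Subtype.ext
        rw [MulAut.conjNormal_apply]
        exact (hconj t (Abelianization.of u)).symm
      · intro h v
        obtain ⟨a, ha⟩ := hker v v.2
        obtain ⟨u, rfl⟩ := QuotientGroup.mk_surjective a
        have h1 := h u
        rw [hw, hw] at h1
        have h2 : v = ⟨SemidirectProduct.inl (Abelianization.of u), hinl _⟩ := Subtype.ext ha
        rw [h2, ← h1]
        congr 1
        apply Subtype.ext
        rw [MulAut.conjNormal_apply]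
        exact (hconj t (Abelianization.of u))
    · obtain ⟨c, hc⟩ := hc
      refine ⟨c, fun k hk => ?_⟩
      rw [hc k ⟨k, hk, rfl⟩]
      congr 2)
  rw [eq_top_iff]
  intro t _
  rw [hact]
  intro a
  have h1 := hcen t (SemidirectProduct.inl a) (hinl a)
  have h2 := hconj t a
  rw [h1, mul_inv_cancel_right] at h2
  exact (SemidirectProduct.inl_injective h2).symm

end Cfsg.Agent.H700.SplitSemi
end

-- part: H700/NormDeg
section
/-!
# A block with normal defect group: degrees of the height zero characters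
-/

set_option autoImplicit false

namespace Cfsg.Agent.H700.NormDeg

open Cfsg Cfsg.Agent.Characters.Core Cfsg.Agent.Characters.Clifford
open Cfsg.Agent.Blocks.CentralProduct
open Cfsg.Agent.H700.NormData Cfsg.Agent.H700.SchurAvg Cfsg.Agent.H700.NormInertia
open scoped ComplexConjugate

universe u

variable {G : Type u} [Group G] {p : ℕ} {M : Ideal AlgInt}

theorem mem_inertia' {N : Subgroup G} [hN : N.Normal] {θ : N → ℂ} {g : G} :
    g ∈ inertia N θ ↔ ∀ n : N, θ ⟨g * n * g⁻¹, hN.conj_mem n n.2 g⟩ = θ n := by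
  rw [mem_inertia]
  have : ∀ n : N, (MulAut.conjNormal g n : N) = ⟨g * n * g⁻¹, hN.conj_mem n n.2 g⟩ := fun n =>
    Subtype.ext (MulAut.conjNormal_apply g n)
  simp only [this]

variable [Fintype G] [Fact p.Prime] {B : Set (IrrCharacter G)} {D N : Subgroup G}
  [hDn : D.Normal] [hNn : N.Normal] [Fintype N] {b : Set (IrrCharacter N)} {θ : IrrCharacter N}

omit [Fact p.Prime] hDn in
/-- Restriction of a character of `S` over `θ`. -/
theorem restrict_eq {S : Subgroup G}
    (hNS : N ≤ S) (hS : S ≤ inertia N (θ : N → ℂ)) {ψ : S → ℂ} (hψ : IsIrrCharacter S ψ)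
    (hov : classInner (fun n : N => ψ ⟨n, hNS n.2⟩) (θ : N → ℂ) ≠ 0) (n : N) :
    ψ ⟨n, hNS n.2⟩ = classInner (fun n : N => ψ ⟨n, hNS n.2⟩) (θ : N → ℂ) * (θ : N → ℂ) n :=
  CharDeep.CliffordCorr.restrict_eq_mul_of_invariant N S hNS hψ θ.2
    (fun _ hg => mem_inertia'.1 (hS hg)) hov n

omit [Fact p.Prime] hDn in
theorem apply_of_mem (h : Data p M B D N b θ) {S : Subgroup G}
    (hNS : N ≤ S) (hS : S ≤ inertia N (θ : N → ℂ)) {ψ : S → ℂ} (hψ : IsIrrCharacter S ψ)
    (hov : classInner (fun n : N => ψ ⟨n, hNS n.2⟩) (θ : N → ℂ) ≠ 0) (u : S)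
    (hu : (u : G) ∈ D) : ψ u = ψ 1 := by
  have h1 := restrict_eq hNS hS hψ hov ⟨u, h.le hu⟩
  have h2 := restrict_eq hNS hS hψ hov 1
  rw [h.ker _ (Subgroup.mem_subgroupOf.2 hu)] at h1
  exact h1.trans h2.symm

omit [Fact p.Prime] in
theorem fac_le (h : Data p M B D N b θ) {S : Subgroup G}
    (hNS : N ≤ S) (hS : S ≤ inertia N (θ : N → ℂ)) {ψ : S → ℂ} (hψ : IsIrrCharacter S ψ)
    (hov : classInner (fun n : N => ψ ⟨n, hNS n.2⟩) (θ : N → ℂ) ≠ 0) :
    (charDegree ψ).factorization p ≤ (D.subgroupOf S).index.factorization p := by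
  classical
  have := Fintype.ofFinite (D.subgroupOf S)
  obtain ⟨ψb, hψb⟩ := Blocks.Deflate.exists_deflation (D.subgroupOf S) ψ hψ (by
    have h1 : ∀ n : D.subgroupOf S, ψ n = ψ 1 := fun n =>
      apply_of_mem h hNS hS hψ hov n (Subgroup.mem_subgroupOf.1 n.2)
    rw [Finset.sum_congr rfl fun n _ => h1 n, Finset.sum_const, nsmul_eq_mul]
    refine mul_ne_zero ?_ (isIrr_apply_one_ne_zero hψ)
    exact_mod_cast Finset.card_ne_zero_of_mem (Finset.mem_univ (1 : D.subgroupOf S)))
  obtain ⟨n, hn0, hn⟩ := isIrr_apply_one ψb.2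
  have h1 : ψ 1 = n := by
    rw [hψb]
    exact hn
  have h2 : n ∣ (D.subgroupOf S).index := degree_dvd_card ψb.2 hn
  rw [charDegree_eq h1]
  exact (Nat.factorization_le_iff_dvd hn0.ne' Subgroup.index_ne_zero_of_finite).2 h2 p

omit [Fact p.Prime] hDn in
theorem dvd_degree {S : Subgroup G}
    (hNS : N ≤ S) (hS : S ≤ inertia N (θ : N → ℂ)) {ψ : S → ℂ} (hψ : IsIrrCharacter S ψ)
    (hov : classInner (fun n : N => ψ ⟨n, hNS n.2⟩) (θ : N → ℂ) ≠ 0) :
    charDegree (θ : N → ℂ) ∣ charDegree ψ := by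
  obtain ⟨k, hk⟩ := classInner_isNat (isCharacter_comp (Subgroup.inclusion hNS)
    (isIrr_isCharacter hψ)) (isIrr_isCharacter θ.2)
  have h2 := restrict_eq hNS hS hψ hov 1
  obtain ⟨n, hn0, hn⟩ := isIrr_apply_one hψ
  obtain ⟨m, hm0, hm⟩ := isIrr_apply_one θ.2
  have h3 : classInner (fun n : N => ψ ⟨n, hNS n.2⟩) (θ : N → ℂ) = k := hk
  rw [h3, hm] at h2
  have h4 : ψ ⟨((1 : N) : G), hNS (1 : N).2⟩ = ψ 1 := rfl
  rw [h4, hn] at h2
  rw [charDegree_eq hn, charDegree_eq hm]
  refine ⟨k, ?_⟩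
  have : n = k * m := by exact_mod_cast h2
  rw [this, mul_comm]

omit [Fintype G] [Fact p.Prime] hDn hNn [Fintype N] in
theorem fac_index [Finite G] {S : Subgroup G} (hDN : D ≤ N) (hNS : N ≤ S) :
    (D.subgroupOf S).index.factorization p =
      (D.subgroupOf N).index.factorization p + (N.relIndex S).factorization p := by
  have h1 := Subgroup.relIndex_mul_relIndex D N S hDN hNS
  have h2 : (D.subgroupOf S).index = (D.subgroupOf N).index * N.relIndex S := h1.symm
  have h3 : N.relIndex S ≠ 0 := Subgroup.index_ne_zero_of_finite (H := N.subgroupOf S)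
  rw [h2, Nat.factorization_mul Subgroup.index_ne_zero_of_finite h3]
  rfl

omit hNn in
/-- The inner product with `θ`, in the form used by the Clifford correspondence. -/
theorem classInner_indFun_subgroupOf {S : Subgroup G} [Fintype S] (hNS : N ≤ S) {ψ : S → ℂ}
    (hψ : IsIrrCharacter S ψ) (φ : IrrCharacter N)
    (hov : classInner (fun n : N => ψ ⟨n, hNS n.2⟩) (φ : N → ℂ) ≠ 0) :
    classInner (indFun (N.subgroupOf S)
      (fun x => (φ : N → ℂ) ⟨(x : S), Subgroup.mem_subgroupOf.mp x.2⟩)) ψ ≠ 0 := by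
  classical
  have := Fintype.ofFinite (N.subgroupOf S)
  rw [CharactersDeep.NormalInd.classInner_indFun _ _ _ (isIrr_isClassFunction hψ)]
  let e : N.subgroupOf S ≃* N := Subgroup.subgroupOfEquivOfLe hNS
  have h1 := classInner_comp_mulEquiv e (φ : N → ℂ) (fun n : N => ψ ⟨n, hNS n.2⟩)
  have h2 : classInner (fun x : N.subgroupOf S =>
      (φ : N → ℂ) ⟨((x : S) : G), Subgroup.mem_subgroupOf.mp x.2⟩)
      (fun x : N.subgroupOf S => ψ x) = classInner (φ : N → ℂ) (fun n : N => ψ ⟨n, hNS n.2⟩) := h1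
  intro h0
  apply hov
  rw [h2] at h0
  rw [← classInner_conj_symm, h0, map_zero]

/-- Inducing a character of the inertia group of a member of `b`. -/
theorem ind_mem (hM : IsPModular p M) (hB : IsPBlock M B) (h : Data p M B D N b θ)
    {φ : IrrCharacter N} (hφ : φ ∈ b) {S : Subgroup G} (hNS : N ≤ S)
    (hS : ∀ g : G, g ∈ S ↔ g ∈ inertia N (φ : N → ℂ)) {ψ : S → ℂ} (hψ : IsIrrCharacter S ψ)
    (hov : classInner (fun n : N => ψ ⟨n, hNS n.2⟩) (φ : N → ℂ) ≠ 0) :
    ∃ χ ∈ B, charDegree (χ : G → ℂ) = S.index * charDegree ψ := by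
  classical
  have := Fintype.ofFinite S
  have hc := classInner_indFun_subgroupOf hNS hψ φ hov
  have hirr := (S1489.result N S (φ : N → ℂ) φ.2 (fun g => (hS g).trans mem_inertia') hNS ψ ψ hψ hψ
    hc hc).1
  have hover := over_indFun hNS hψ φ.2 hov hirr
  refine ⟨⟨_, hirr⟩, Data.mem_of_over hM hB h hφ hover, ?_⟩
  obtain ⟨n, hn0, hn⟩ := isIrr_apply_one hψ
  rw [charDegree_eq hn]
  apply charDegree_eq
  show indFun S ψ 1 = _
  rw [CharactersDeep.NormalInd.indFun_one, hn]
  push_cast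
  rfl

omit [Fintype G] hDn in
theorem fac_card [Finite G] (hM : IsPModular p M) (hB : IsPBlock M B)
    (hD : IsDefectGroup p M B D) : (Nat.card D).factorization p = blockDefect p B := by
  rw [S0908.result p M hM B hB D hD, Nat.factorization_pow]
  simp [(Fact.out : p.Prime).factorization_self]

omit [Fintype G] [Fact p.Prime] hDn in
/-- Criterion for height zero. -/
theorem height_zero [Finite G] {χ : IrrCharacter G} (hχ : χ ∈ B)
    (h : (charDegree (χ : G → ℂ)).factorization p + blockDefect p B ≤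
      (Nat.card G).factorization p) : blockHeight p B (χ : G → ℂ) = 0 := by
  rw [Blocks.Basic.blockHeight_def, tsub_eq_zero_iff_le]
  rw [Blocks.Basic.blockDefect_def] at h
  obtain ⟨χ₁, hχ₁, h1⟩ := Nat.sInf_mem (s := (fun χ : IrrCharacter G =>
    (charDegree (χ : G → ℂ)).factorization p) '' B) ⟨_, χ, hχ, rfl⟩
  have h2 : (charDegree (χ₁ : G → ℂ)).factorization p ≤ (Nat.card G).factorization p := by
    obtain ⟨n, hn0, hn⟩ := isIrr_apply_one χ₁.2
    rw [charDegree_eq hn]
    exact (Nat.factorization_le_iff_dvd hn0.ne' Nat.card_pos.ne').2 (degree_dvd_card χ₁.2 hn) p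
  simp only at h1
  omega

omit [Fintype G] [Fact p.Prime] hDn in
theorem le_fac [Finite G] {χ : IrrCharacter G} (hχ : χ ∈ B) : (Nat.card G).factorization p ≤
    blockDefect p B + (charDegree (χ : G → ℂ)).factorization p := by
  rw [Blocks.Basic.blockDefect_def]
  have h : sInf ((fun χ : IrrCharacter G => (charDegree (χ : G → ℂ)).factorization p) '' B) ≤
      (charDegree (χ : G → ℂ)).factorization p :=
    Nat.sInf_le ⟨χ, hχ, rfl⟩
  omega

omit [Fintype G] [Fact p.Prime] hDn in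
theorem fac_card_eq [Finite G] {S : Subgroup G} (hDS : D ≤ S) : (Nat.card G).factorization p =
    (Nat.card D).factorization p + (D.subgroupOf S).index.factorization p +
      S.index.factorization p := by
  have h1 := Subgroup.card_mul_index S
  have h2 := Subgroup.card_mul_index (D.subgroupOf S)
  have h3 : Nat.card (D.subgroupOf S) = Nat.card D :=
    Nat.card_congr (Subgroup.subgroupOfEquivOfLe hDS).toEquiv
  rw [← h1, ← h2, h3, Nat.factorization_mul
    (mul_ne_zero Nat.card_pos.ne' Subgroup.index_ne_zero_of_finite)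
    Subgroup.index_ne_zero_of_finite, Nat.factorization_mul Nat.card_pos.ne'
    Subgroup.index_ne_zero_of_finite]
  rfl

/-- The inertia group has index prime to `p` over `N`. -/
theorem not_dvd_relIndex (hM : IsPModular p M) (hB : IsPBlock M B) (hD : IsDefectGroup p M B D)
    (h : Data p M B D N b θ) : ¬ p ∣ N.relIndex (inertia N (θ : N → ℂ)) := by
  classical
  have hp : p.Prime := Fact.out
  set T := inertia N (θ : N → ℂ) with hT
  have hNT : N ≤ T := le_inertia (isIrr_isClassFunction θ.2)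
  have hDT : D ≤ T := h.le.trans hNT
  have := Fintype.ofFinite T
  have := Fintype.ofFinite (N.subgroupOf T)
  have := finite_irr (G := T)
  have := Fintype.ofFinite (IrrCharacter T)
  let e : N.subgroupOf T ≃* N := Subgroup.subgroupOfEquivOfLe hNT
  have he : ∀ x : N.subgroupOf T, ((e x : N) : G) = ((x : T) : G) := fun _ => rfl
  have hθT : IsIrrCharacter (N.subgroupOf T) (fun x => (θ : N → ℂ) (e x)) :=
    isIrr_comp (e : N.subgroupOf T →* N) e.surjective θ.2
  have hinv : ∀ g : T, (fun x => (θ : N → ℂ) (e x)) ∘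
      (MulAut.conjNormal g : MulAut (N.subgroupOf T)) = fun x => (θ : N → ℂ) (e x) := by
    intro g
    funext x
    have h1 := mem_inertia.1 g.2 (e x)
    simp only [Function.comp]
    rw [← h1]
    congr 1
  have hsum := sum_over hθT hinv (1 : T)
  rw [CharactersDeep.NormalInd.indFun_one] at hsum
  obtain ⟨m, hm0, hm⟩ := isIrr_apply_one θ.2
  have hθdeg := h.deg
  rw [charDegree_eq hm] at hθdeg
  have he1 : (θ : N → ℂ) (e 1) = m := by rw [map_one, hm]
  rw [he1] at hsum
  choose dd hdd0 hdd using fun ψ : IrrCharacter T => isIrr_apply_one ψ.2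
  set Z := Finset.univ.filter (fun ψ : IrrCharacter T =>
    Ov (N.subgroupOf T) (fun x => (θ : N → ℂ) (e x)) (ψ : T → ℂ)) with hZ
  have hsum' : ∑ ψ ∈ Z, dd ψ * dd ψ = m * (N.relIndex T * m) := by
    have h1 : (∑ ψ ∈ Z, (dd ψ : ℂ) * dd ψ) = m * ((N.subgroupOf T).index * m) := by
      rw [← hsum]
      refine Finset.sum_congr rfl fun ψ _ => ?_
      rw [hdd]
    exact_mod_cast h1
  have hfac : (Nat.card G).factorization p = _ := fac_card_eq (p := p) hDT
  have hfi := fac_index (p := p) h.le hNT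
  -- every degree is divisible by the right power of `p`
  have hdiv : ∀ ψ ∈ Z, p ^ (D.subgroupOf T).index.factorization p ∣ dd ψ := by
    intro ψ hψ
    have hov : Ov (N.subgroupOf T) (fun x => (θ : N → ℂ) (e x)) (ψ : T → ℂ) :=
      (Finset.mem_filter.1 hψ).2
    have hov' : classInner (fun n : N => (ψ : T → ℂ) ⟨n, hNT n.2⟩) (θ : N → ℂ) ≠ 0 := by
      intro h0
      apply hov
      rw [← h0]
      exact classInner_comp_mulEquiv e (fun n : N => (ψ : T → ℂ) ⟨n, hNT n.2⟩) (θ : N → ℂ)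
    obtain ⟨χ, hχ, hdeg⟩ := ind_mem hM hB h h.mem hNT (fun g => by rw [hT]) ψ.2 hov'
    have h1 := le_fac (p := p) hχ
    rw [hdeg, Nat.factorization_mul Subgroup.index_ne_zero_of_finite
      (by rw [charDegree_eq (hdd ψ)]; exact (hdd0 ψ).ne'), Finsupp.add_apply,
      charDegree_eq (hdd ψ), hfac, ← fac_card hM hB hD] at h1
    exact (Nat.Prime.pow_dvd_iff_le_factorization hp (hdd0 ψ).ne').2 (by omega)
  have hdiv2 : p ^ (2 * (D.subgroupOf T).index.factorization p) ∣ m * (N.relIndex T * m) := by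
    rw [← hsum']
    refine Finset.dvd_sum fun ψ hψ => ?_
    rw [two_mul, pow_add]
    exact mul_dvd_mul (hdiv ψ hψ) (hdiv ψ hψ)
  intro hdvd
  have hr0 : N.relIndex T ≠ 0 := Subgroup.index_ne_zero_of_finite (H := N.subgroupOf T)
  have hpos : 0 < (N.relIndex T).factorization p :=
    Nat.Prime.factorization_pos_of_dvd hp hr0 hdvd
  rw [Nat.Prime.pow_dvd_iff_le_factorization hp (mul_ne_zero hm0.ne' (mul_ne_zero hr0 hm0.ne')),
    Nat.factorization_mul hm0.ne' (mul_ne_zero hr0 hm0.ne'), Nat.factorization_mul hr0 hm0.ne',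
    Finsupp.add_apply, Finsupp.add_apply, hfi, ← hθdeg] at hdiv2
  omega

end Cfsg.Agent.H700.NormDeg
end

-- part: H700/NormMain
section
/-!
# A block with normal defect group all of whose height zero characters have the same degree
-/

set_option autoImplicit false

namespace Cfsg.Agent.H700.NormMain

open Cfsg Cfsg.Agent.Characters.Core Cfsg.Agent.Characters.Clifford
open Cfsg.Agent.Blocks.CentralProduct
open Cfsg.Agent.H700.NormData Cfsg.Agent.H700.SchurAvg Cfsg.Agent.H700.NormInertia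
open Cfsg.Agent.H700.NormDeg Cfsg.Agent.H700.SplitSemi
open scoped ComplexConjugate

universe u

/-- Elements acting trivially on `D/D'` lie in `N ≥ C(D)` if `p` does not divide `|X : N|`. -/
theorem mem_of_act_trivial {X : Type u} [Group X] [Finite X] {p : ℕ} [Fact p.Prime]
    {D N : Subgroup X} [D.Normal] [N.Normal] (hD : IsPGroup p D)
    (hC : Subgroup.centralizer (D : Set X) ≤ N) (hidx : ¬ p ∣ N.index) {t : X}
    (ht : ∀ u : D, (Abelianization.of (MulAut.conjNormal t u : D) : Abelianization D) =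
      Abelianization.of u) : t ∈ N := by
  have hp : p.Prime := Fact.out
  have hn0 : orderOf t ≠ 0 := (orderOf_pos t).ne'
  set k := (orderOf t).factorization p with hk
  have hdvd : p ^ k ∣ orderOf t := Nat.ordProj_dvd _ _
  have hs : orderOf (t ^ p ^ k) = orderOf t / p ^ k :=
    orderOf_pow_of_dvd (pow_ne_zero _ hp.ne_zero) hdvd
  have hsp : ¬ p ∣ orderOf (t ^ p ^ k) := by
    rw [hs]
    exact Nat.not_dvd_ordCompl hp hn0
  have htker : t ∈ (act D).ker := by
    rw [MonoidHom.mem_ker]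
    ext a
    obtain ⟨u, rfl⟩ := QuotientGroup.mk_surjective a
    exact ht u
  have hle : Subgroup.zpowers (t ^ p ^ k) ≤ (act D).ker := by
    rw [Subgroup.zpowers_le]
    exact Subgroup.pow_mem _ htker _
  obtain ⟨m, hm⟩ := IsPGroup.iff_card.1 (hD.to_subgroup (frattini D))
  have hcen := S0029.result (Subgroup.zpowers (t ^ p ^ k)) D
    (by rw [Subgroup.normalizer_eq_top]; exact le_top) (by
      rw [Nat.card_zpowers, hm]
      exact Nat.Coprime.pow_right m ((Nat.Prime.coprime_iff_not_dvd hp).2 hsp).symm) (by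
      intro a ha x hx
      have h1 := MonoidHom.mem_ker.1 (hle ha)
      have h2 : act D a (Abelianization.of ⟨x, hx⟩) = Abelianization.of ⟨x, hx⟩ := by
        rw [h1]
        rfl
      rw [act_of] at h2
      have h3 : (MulAut.conjNormal a ⟨x, hx⟩ : D) / ⟨x, hx⟩ ∈ commutator D :=
        QuotientGroup.eq_iff_div_mem.1 h2
      refine ⟨_, (S0012.result p hD).1 h3, ?_⟩
      rw [div_eq_mul_inv]
      simp [MulAut.conjNormal_apply])
  have h1 : t ^ p ^ k ∈ N := hC (hcen (Subgroup.mem_zpowers _))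
  have h2 : t ^ N.index ∈ N := Subgroup.pow_index_mem N t
  have hcop : IsCoprime ((p ^ k : ℕ) : ℤ) (N.index : ℤ) := by
    rw [Nat.isCoprime_iff_coprime]
    exact Nat.Coprime.pow_left k ((Nat.Prime.coprime_iff_not_dvd hp).2 hidx)
  obtain ⟨x, y, hxy⟩ := hcop
  have h3 : t = (t ^ p ^ k) ^ x * (t ^ N.index) ^ y := by
    rw [← zpow_natCast, ← zpow_natCast, ← zpow_mul, ← zpow_mul, ← zpow_add,
      mul_comm _ x, mul_comm _ y, hxy, zpow_one]
  rw [h3]
  exact N.mul_mem (Subgroup.zpow_mem _ h1 _) (Subgroup.zpow_mem _ h2 _)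

variable {G : Type u} [Group G] {p : ℕ} {M : Ideal AlgInt} [Fintype G] [Fact p.Prime]
  {B : Set (IrrCharacter G)} {D N : Subgroup G} [hDn : D.Normal] [hNn : N.Normal] [Fintype N]
  {b : Set (IrrCharacter N)} {θ : IrrCharacter N}

/-- The `p`-part of the degrees of the characters over `θ`. -/
theorem fac_eq (hM : IsPModular p M) (hB : IsPBlock M B) (hD : IsDefectGroup p M B D)
    (h : Data p M B D N b θ) {S : Subgroup G}
    (hNS : N ≤ S) (hS : S ≤ inertia N (θ : N → ℂ)) {ψ : S → ℂ} (hψ : IsIrrCharacter S ψ)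
    (hov : classInner (fun n : N => ψ ⟨n, hNS n.2⟩) (θ : N → ℂ) ≠ 0) :
    (charDegree ψ).factorization p = (D.subgroupOf S).index.factorization p := by
  have hp : p.Prime := Fact.out
  refine le_antisymm (fac_le h hNS hS hψ hov) ?_
  have h1 := not_dvd_relIndex hM hB hD h
  have h2 : N.relIndex S ∣ N.relIndex (inertia N (θ : N → ℂ)) :=
    ⟨_, (Subgroup.relIndex_mul_relIndex N S _ hNS hS).symm⟩
  have h3 : (N.relIndex S).factorization p = 0 :=
    Nat.factorization_eq_zero_of_not_dvd fun h => h1 (h.trans h2)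
  rw [fac_index h.le hNS, h3, add_zero, ← h.deg]
  obtain ⟨n, hn0, hn⟩ := isIrr_apply_one hψ
  obtain ⟨m, hm0, hm⟩ := isIrr_apply_one θ.2
  have h4 := dvd_degree hNS hS hψ hov
  rw [charDegree_eq hn, charDegree_eq hm] at h4 ⊢
  exact (Nat.factorization_le_iff_dvd hm0.ne' hn0.ne').2 h4 p

/-- The height zero character attached to a linear character `w` of `D` and a character over `θ` of
the stabilizer of `w`. -/
theorem exists_height_zero (hM : IsPModular p M) (hB : IsPBlock M B)
    (hD : IsDefectGroup p M B D) (h : Data p M B D N b θ) (w : D →* ℂˣ) {S : Subgroup G}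
    (hS : ∀ g : G, g ∈ S ↔ g ∈ inertia N (θ : N → ℂ) ∧ g ∈ inertia D (fun u => (w u : ℂ)))
    (hNS : N ≤ S) {ψ : S → ℂ} (hψ : IsIrrCharacter S ψ)
    (hov : classInner (fun n : N => ψ ⟨n, hNS n.2⟩) (θ : N → ℂ) ≠ 0) :
    ∃ χ ∈ B, blockHeight p B (χ : G → ℂ) = 0 ∧
      charDegree (χ : G → ℂ) = S.index * charDegree ψ := by
  classical
  have hST : S ≤ inertia N (θ : N → ℂ) := fun g hg => ((hS g).1 hg).1
  have hDS : D ≤ S := h.le.trans hNS
  obtain ⟨φ, hφb, hφ1, hφ0⟩ := h.exists_lin hM w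
  have hfac := fac_eq hM hB hD h hNS hST hψ hov
  -- the twist
  let e : D.subgroupOf S ≃* D := Subgroup.subgroupOfEquivOfLe hDS
  have he : ∀ x : D.subgroupOf S, ((e x : D) : G) = ((x : S) : G) := fun _ => rfl
  have hDp : IsPGroup p (D.subgroupOf S) :=
    h.isPGroup.comap_of_injective (Subgroup.subtype _) (Subgroup.subtype_injective _)
  obtain ⟨ψ', hψ'⟩ := CentralTwist.exists_twist p hM (D.subgroupOf S) hDp
    (w.comp (e : D.subgroupOf S →* D)) (by
      intro y u
      have h1 := mem_inertia_lin.1 ((hS y).1 y.2).2 (e u)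
      show w (e (MulAut.conjNormal y u)) = w (e u)
      rw [← h1]
      congr 1) hψ
    (fun u hu => apply_of_mem h hNS hST hψ hov u (Subgroup.mem_subgroupOf.1 hu)) hfac
  have hval : ∀ (u : G) (hu : u ∈ D) (y : S), ¬ p ∣ orderOf y →
      (ψ' : S → ℂ) (⟨u, hDS hu⟩ * y) = (w ⟨u, hu⟩ : ℂ) * ψ y := by
    intro u hu y hy
    exact hψ' ⟨⟨u, hDS hu⟩, Subgroup.mem_subgroupOf.2 hu⟩ y hy
  have hone : (ψ' : S → ℂ) 1 = ψ 1 := by
    have h1 := hval 1 D.one_mem 1 not_dvd_orderOf_one
    have h2 : (⟨1, D.one_mem⟩ : D) = 1 := rfl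
    have h3 : (⟨1, hDS D.one_mem⟩ : S) * 1 = 1 := by
      apply Subtype.ext
      simp
    rw [h3, h2, map_one, Units.val_one, one_mul] at h1
    exact h1
  -- the twist lies over `φ`
  set c := classInner (fun n : N => ψ ⟨n, hNS n.2⟩) (θ : N → ℂ) with hc
  have hψc : ∀ n : N, ψ ⟨n, hNS n.2⟩ = c * (θ : N → ℂ) n := restrict_eq hNS hST hψ hov
  have hsum : ∀ n : N, (ψ' : S → ℂ) ⟨n, hNS n.2⟩ * conj ((φ : N → ℂ) n) =
      c * ((φ : N → ℂ) n * conj ((φ : N → ℂ) n)) := by
    intro n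
    by_cases hn : n ∈ prodSet p (D.subgroupOf N)
    · obtain ⟨u, hu, y, hy, rfl⟩ := hn
      have hu' := Subgroup.mem_subgroupOf.1 hu
      have hy' : ¬ p ∣ orderOf (⟨(y : G), hNS y.2⟩ : S) := by
        rw [Subgroup.orderOf_mk]
        rwa [Subgroup.orderOf_coe]
      have e2 := hval u hu' ⟨(y : G), hNS y.2⟩ hy'
      have e3 : (φ : N → ℂ) (u * y) = (w ⟨(u : G), hu'⟩ : ℂ) * (θ : N → ℂ) y := hφ1 u hu' y hy
      have e4 : (⟨((u * y : N) : G), hNS (u * y).2⟩ : S) =
          ⟨(u : G), hDS hu'⟩ * ⟨(y : G), hNS y.2⟩ := rfl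
      rw [e4, e2, hψc, ← mul_assoc c]
      congr 1
      rw [e3]
      ring
    · rw [hφ0 n hn]
      simp
  have hov' : classInner (fun n : N => (ψ' : S → ℂ) ⟨n, hNS n.2⟩) (φ : N → ℂ) ≠ 0 := by
    have h1 : classInner (fun n : N => (ψ' : S → ℂ) ⟨n, hNS n.2⟩) (φ : N → ℂ) =
        c * classInner (φ : N → ℂ) (φ : N → ℂ) := by
      unfold classInner
      rw [Finset.sum_congr rfl fun n _ => hsum n, ← Finset.mul_sum]
      ring
    rw [h1, classInner_irr_self φ.2, mul_one]
    exact hov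
  obtain ⟨χ, hχ, hdeg⟩ := ind_mem hM hB h hφb hNS (fun g => by
    rw [hS, Data.mem_inertia_twist hM h w hφ1 hφ0]) ψ'.2 hov'
  obtain ⟨n, hn0, hn⟩ := isIrr_apply_one hψ
  have hdψ : charDegree (ψ' : S → ℂ) = charDegree ψ := by
    rw [charDegree_eq hn, charDegree_eq (hone.trans hn)]
  rw [hdψ] at hdeg
  refine ⟨χ, hχ, height_zero hχ ?_, hdeg⟩
  rw [hdeg, Nat.factorization_mul Subgroup.index_ne_zero_of_finite
    (by rw [charDegree_eq hn]; exact hn0.ne'), Finsupp.add_apply, hfac, fac_card_eq hDS,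
    fac_card hM hB hD]
  omega

/-- If all height zero characters have the same degree then `θ` is only fixed by `N`. -/
theorem inertia_eq (hM : IsPModular p M) (hB : IsPBlock M B)
    (hD : IsDefectGroup p M B D) (h : Data p M B D N b θ) {d : ℕ}
    (hd : ∀ χ ∈ B, blockHeight p B (χ : G → ℂ) = 0 → charDegree (χ : G → ℂ) = d) :
    inertia N (θ : N → ℂ) = N := by
  classical
  have hp : p.Prime := Fact.out
  set T := inertia N (θ : N → ℂ) with hT
  have hNT : N ≤ T := le_inertia (isIrr_isClassFunction θ.2)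
  have hDT : D ≤ T := h.le.trans hNT
  have := Fintype.ofFinite T
  have := Fintype.ofFinite (N.subgroupOf T)
  have hidx : ¬ p ∣ (N.subgroupOf T).index := not_dvd_relIndex hM hB hD h
  let e : N.subgroupOf T ≃* N := Subgroup.subgroupOfEquivOfLe hNT
  have he : ∀ x : N.subgroupOf T, ((e x : N) : G) = ((x : T) : G) := fun _ => rfl
  have hθT : IsIrrCharacter (N.subgroupOf T) (fun x => (θ : N → ℂ) (e x)) :=
    isIrr_comp (e : N.subgroupOf T →* N) e.surjective θ.2
  have hinv : ∀ g : T, (fun x => (θ : N → ℂ) (e x)) ∘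
      (MulAut.conjNormal g : MulAut (N.subgroupOf T)) = fun x => (θ : N → ℂ) (e x) := by
    intro g
    funext x
    have h1 := mem_inertia.1 g.2 (e x)
    simp only [Function.comp]
    rw [← h1]
    congr 1
  let eD : D.subgroupOf T ≃* D := Subgroup.subgroupOfEquivOfLe hDT
  have heD : ∀ x : D.subgroupOf T, ((eD x : D) : G) = ((x : T) : G) := fun _ => rfl
  have hDp : IsPGroup p (D.subgroupOf T) :=
    h.isPGroup.comap_of_injective (Subgroup.subtype _) (Subgroup.subtype_injective _)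
  have hcen : Subgroup.centralizer (D.subgroupOf T : Set T) ≤ N.subgroupOf T := by
    intro t ht
    rw [Subgroup.mem_subgroupOf]
    apply h.centralizer_le
    rw [Subgroup.mem_centralizer_iff]
    intro u hu
    have := Subgroup.mem_centralizer_iff.1 ht ⟨u, hDT hu⟩ (Subgroup.mem_subgroupOf.2 hu)
    exact congrArg Subtype.val this
  have htop := SplitSemi.main hp hDp (N.subgroupOf T) (fun t => by
    refine ⟨fun ht u => ?_, fun ht => mem_of_act_trivial hDp hcen hidx ht⟩
    obtain ⟨x, hx, c, hc, hxc⟩ := exists_mul h.eqN (Subgroup.mem_subgroupOf.1 ht)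
    have h1 : (MulAut.conjNormal t u : D.subgroupOf T) =
        ⟨⟨x, hDT hx⟩, Subgroup.mem_subgroupOf.2 hx⟩ * u *
          (⟨⟨x, hDT hx⟩, Subgroup.mem_subgroupOf.2 hx⟩ : D.subgroupOf T)⁻¹ := by
      apply Subtype.ext
      apply Subtype.ext
      rw [MulAut.conjNormal_apply]
      have h2 := Subgroup.mem_centralizer_iff.1 hc ((u : T) : G) (Subgroup.mem_subgroupOf.1 u.2)
      simp only [Subgroup.coe_mul, Subgroup.coe_inv, ← hxc]
      calc x * c * ((u : T) : G) * (x * c)⁻¹ = x * (c * ((u : T) : G)) * c⁻¹ * x⁻¹ := by group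
        _ = x * (((u : T) : G) * c) * c⁻¹ * x⁻¹ := by rw [h2]
        _ = x * ((u : T) : G) * x⁻¹ := by group
    rw [h1, map_mul, map_mul, map_inv, mul_comm, ← mul_assoc, inv_mul_cancel, one_mul])
    hidx hθT hinv (d := (d : ℂ) / T.index) (by
    intro w S hS ψ hψ hc
    obtain ⟨c, hc⟩ := hc
    -- move to `G`
    set X := S.map T.subtype with hX
    have hmemX : ∀ g : G, g ∈ X ↔ ∃ ht : g ∈ T, (⟨g, ht⟩ : T) ∈ S := by
      intro g
      rw [hX, Subgroup.mem_map]
      constructor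
      · rintro ⟨t, ht, rfl⟩
        exact ⟨t.2, ht⟩
      · rintro ⟨ht, hs⟩
        exact ⟨⟨g, ht⟩, hs, rfl⟩
    let w' : D →* ℂˣ := w.comp (eD.symm : D →* D.subgroupOf T)
    have hw' : ∀ u : D.subgroupOf T, w' (eD u) = w u := fun u => by
      show w (eD.symm (eD u)) = w u
      rw [MulEquiv.symm_apply_apply]
    have hmem : ∀ t : T, t ∈ S ↔ (t : G) ∈ inertia D (fun u => (w' u : ℂ)) := by
      intro t
      rw [hS, mem_inertia_lin]
      constructor
      · intro h1 u
        obtain ⟨u, rfl⟩ := eD.surjective u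
        rw [hw', ← h1 u, ← hw']
        congr 1
      · intro h1 u
        rw [← hw', ← hw' u, ← h1 (eD u)]
        congr 1
    have hXS : ∀ g : G, g ∈ X ↔ g ∈ inertia N (θ : N → ℂ) ∧
        g ∈ inertia D (fun u => (w' u : ℂ)) := by
      intro g
      rw [hmemX]
      constructor
      · rintro ⟨ht, hs⟩
        exact ⟨ht, (hmem ⟨g, ht⟩).1 hs⟩
      · rintro ⟨ht, hs⟩
        exact ⟨ht, (hmem ⟨g, ht⟩).2 hs⟩
    have hNX : N ≤ X := by
      intro n hn
      rw [hXS]
      exact ⟨hNT hn, Data.le_inertia_lin h w' hn⟩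
    let j : X →* S :=
      { toFun := fun x => ⟨⟨(x : G), ((hmemX x).1 x.2).1⟩, ((hmemX x).1 x.2).2⟩
        map_one' := rfl
        map_mul' := fun a b => rfl }
    have hj : Function.Surjective j := by
      intro s
      exact ⟨⟨((s : T) : G), (hmemX _).2 ⟨(s : T).2, s.2⟩⟩, rfl⟩
    have hψX : IsIrrCharacter X (fun x => ψ (j x)) := isIrr_comp j hj hψ
    have hcX : ∀ n : N, ψ (j ⟨n, hNX n.2⟩) = c * (θ : N → ℂ) n := by
      intro n
      exact hc (j ⟨n, hNX n.2⟩) (Subgroup.mem_subgroupOf.2 n.2)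
    have hovX : classInner (fun n : N => ψ (j ⟨n, hNX n.2⟩)) (θ : N → ℂ) ≠ 0 := by
      have h1 : (fun n : N => ψ (j ⟨n, hNX n.2⟩)) = c • (θ : N → ℂ) := by
        funext n
        rw [hcX]
        rfl
      rw [h1, classInner_smul_left, classInner_irr_self θ.2, mul_one]
      rintro rfl
      have h2 := hcX 1
      rw [zero_mul] at h2
      apply isIrr_apply_one_ne_zero hψ
      exact h2
    obtain ⟨χ, hχ, hh, hdeg⟩ := exists_height_zero hM hB hD h w' hXS hNX hψX hovX
    have h1 := hd χ hχ hh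
    rw [hdeg] at h1
    obtain ⟨n, hn0, hn⟩ := isIrr_apply_one hψ
    have hn' : (fun x => ψ (j x)) 1 = (n : ℂ) := by
      simp only [map_one]
      exact hn
    rw [charDegree_eq (χ := fun x : X => ψ (j x)) hn'] at h1
    have h2 : X.index = S.index * T.index := by
      rw [hX, Subgroup.index_map_subtype]
    have hT0 : (T.index : ℂ) ≠ 0 := by
      exact_mod_cast Subgroup.index_ne_zero_of_finite
    rw [hn, ← h1, h2]
    push_cast
    field_simp)
  refine le_antisymm ?_ hNT
  intro t ht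
  have : (⟨t, ht⟩ : T) ∈ N.subgroupOf T := by
    rw [htop]
    exact Subgroup.mem_top _
  exact Subgroup.mem_subgroupOf.1 this

end Cfsg.Agent.H700.NormMain
end

-- part: H700/NormNil
section
/-!
# A block with normal defect group: nilpotency
-/

set_option autoImplicit false

namespace Cfsg.Agent.H700.NormNil

open Cfsg Cfsg.Agent.Characters.Core Cfsg.Agent.Characters.Clifford
open Cfsg.Agent.Blocks.CentralProduct
open Cfsg.Agent.H700.NormData Cfsg.Agent.H700.SchurAvg Cfsg.Agent.H700.NormInertia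
open Cfsg.Agent.H700.NormDeg Cfsg.Agent.H700.NormMain
open Cfsg.Agent.H646.NormalSupport
open Cfsg.Agent.Blocks.Fong (cj cj_apply cj_cj cj_one)
open scoped ComplexConjugate

universe u

section Gen

variable {G : Type u} [Group G] {M : Ideal AlgInt}

/-- Transport of the same block relation along an isomorphism. -/
theorem sameBlock_comp {H : Type*} [Group H] (e : H ≃* G) {χ ψ : G → ℂ}
    (h : SameBlock M χ ψ) : SameBlock M (fun x => χ (e x)) (fun x => ψ (e x)) := by
  intro x
  rw [Blocks.Covering.centralChar_comp_equiv, Blocks.Covering.centralChar_comp_equiv]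
  exact h _

/-- Sums of invariant functions supported on a normal subgroup. -/
theorem omega_eq [Finite G] (C K : Subgroup G) [C.Normal] [Fintype C] [Fintype K] (hCK : C ≤ K)
    {β : G → ℂ} (hβ : IsClassFunction G β) (hβ0 : ∀ g, g ∉ C → β g = 0) {ξ : K → ℂ}
    (hξ : IsIrrCharacter K ξ) {η : C → ℂ} (hη : IsIrrCharacter C η)
    (hov : classInner (fun n : C => ξ ⟨n, hCK n.2⟩) η ≠ 0) :
    ∑ x : K, β x * (ξ x / ξ 1) = ∑ x : C, β x * (η x / η 1) := by
  classical
  have := Fintype.ofFinite (C.subgroupOf K)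
  let e : C.subgroupOf K ≃* C := Subgroup.subgroupOfEquivOfLe hCK
  have he : ∀ x : C.subgroupOf K, ((e x : C) : G) = ((x : K) : G) := fun _ => rfl
  have h1 : (∑ n : C.subgroupOf K, β ((n : K) : G) * ξ n) / ξ 1 =
      (∑ n : C.subgroupOf K, β ((n : K) : G) * η (e n)) / η (e 1) := by
    refine Blocks.Over.sum_mul_eq_of_over (C.subgroupOf K) hξ
      (isIrr_comp (e : C.subgroupOf K →* C) e.surjective hη) ?_ (fun n => β ((n : K) : G)) ?_
    · intro h0
      apply hov
      rw [← h0]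
      exact (classInner_comp_mulEquiv e (fun n : C => ξ ⟨n, hCK n.2⟩) η).symm
    · intro g n
      rw [MulAut.conjNormal_apply]
      exact hβ _ _
  have h2 : ∑ x : K, β x * (ξ x / ξ 1) = (∑ n : C.subgroupOf K, β ((n : K) : G) * ξ n) / ξ 1 := by
    rw [Finset.sum_div]
    have h3 : ∑ x : K, β x * (ξ x / ξ 1) = ∑ x ∈ (Finset.univ : Finset (C.subgroupOf K)).map
        ⟨Subtype.val, Subtype.val_injective⟩, β (x : G) * (ξ x / ξ 1) := by
      symm
      apply Finset.sum_subset (Finset.subset_univ _)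
      intro x _ hx
      rw [hβ0, zero_mul]
      intro hxC
      apply hx
      rw [Finset.mem_map]
      exact ⟨⟨x, Subgroup.mem_subgroupOf.2 hxC⟩, Finset.mem_univ _, rfl⟩
    rw [h3, Finset.sum_map]
    refine Finset.sum_congr rfl fun x _ => ?_
    rw [mul_div_assoc]
    rfl
  rw [h2, h1, map_one, Finset.sum_div]
  refine Fintype.sum_equiv e.toEquiv _ _ fun x => ?_
  rw [mul_div_assoc]
  rfl

/-- Covered blocks of a normal subgroup of `G` contained in `K` are conjugate in `K`. -/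
theorem cover_conj [Fintype G] {p : ℕ} [Fact p.Prime] (hM : IsPModular p M) (C K : Subgroup G)
    [C.Normal] [Fintype C] (hCK : C ≤ K) {f : Set (IrrCharacter K)} (hf : IsPBlock M f)
    {ξ ξ' : IrrCharacter K} (hξ : ξ ∈ f) (hξ' : ξ' ∈ f) {η η' : IrrCharacter C}
    (hov : classInner (fun n : C => (ξ : K → ℂ) ⟨n, hCK n.2⟩) (η : C → ℂ) ≠ 0)
    (hov' : classInner (fun n : C => (ξ' : K → ℂ) ⟨n, hCK n.2⟩) (η' : C → ℂ) ≠ 0) :
    ∃ k ∈ K, SameBlock M (η : C → ℂ) (cj C k η' : C → ℂ) := by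
  classical
  have hprime : M.IsPrime := hM.2.1.isPrime
  have := Fintype.ofFinite K
  have := Fintype.ofFinite (C.subgroupOf K)
  let e : C.subgroupOf K ≃* C := Subgroup.subgroupOfEquivOfLe hCK
  have he : ∀ x : C.subgroupOf K, ((e x : C) : G) = ((x : K) : G) := fun _ => rfl
  let θ : IrrCharacter (C.subgroupOf K) :=
    ⟨fun x => (η : C → ℂ) (e x), isIrr_comp (e : C.subgroupOf K →* C) e.surjective η.2⟩
  let θ' : IrrCharacter (C.subgroupOf K) :=
    ⟨fun x => (η' : C → ℂ) (e x), isIrr_comp (e : C.subgroupOf K →* C) e.surjective η'.2⟩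
  have h1 : classInner (fun n : C.subgroupOf K => (ξ : K → ℂ) n) (θ : C.subgroupOf K → ℂ) ≠ 0 := by
    intro h0
    apply hov
    rw [← h0]
    exact (classInner_comp_mulEquiv e (fun n : C => (ξ : K → ℂ) ⟨n, hCK n.2⟩) (η : C → ℂ)).symm
  have h1' : classInner (fun n : C.subgroupOf K => (ξ' : K → ℂ) n)
      (θ' : C.subgroupOf K → ℂ) ≠ 0 := by
    intro h0
    apply hov'
    rw [← h0]
    exact (classInner_comp_mulEquiv e (fun n : C => (ξ' : K → ℂ) ⟨n, hCK n.2⟩) (η' : C → ℂ)).symm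
  obtain ⟨g, θ'', hθ'', hg⟩ := S0964.result p M hM (C.subgroupOf K) f hf
    (blockOf M (θ : C.subgroupOf K → ℂ)) (Blocks.Basic.isPBlock_blockOf θ) ξ hξ θ
    (Blocks.Basic.mem_blockOf_self θ) h1 ξ' hξ' θ' h1'
  refine ⟨((g⁻¹ : K) : G), (g⁻¹).2, ?_⟩
  have h2 : SameBlock M (θ : C.subgroupOf K → ℂ) (θ'' : C.subgroupOf K → ℂ) := hθ''
  have h3 := sameBlock_comp e.symm h2
  have h4 : (fun x : C => (θ : C.subgroupOf K → ℂ) (e.symm x)) = (η : C → ℂ) := by
    funext x
    show (η : C → ℂ) (e (e.symm x)) = _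
    rw [MulEquiv.apply_symm_apply]
  have h5 : (fun x : C => (θ'' : C.subgroupOf K → ℂ) (e.symm x)) =
      (cj C ((g⁻¹ : K) : G) η' : C → ℂ) := by
    funext x
    have h6 := hg (MulAut.conjNormal g⁻¹ (e.symm x))
    have h7 : (⟨(g : K) * ((MulAut.conjNormal g⁻¹ (e.symm x) : C.subgroupOf K) : K) * g⁻¹,
        (inferInstance : (C.subgroupOf K).Normal).conj_mem _
          (MulAut.conjNormal g⁻¹ (e.symm x) : C.subgroupOf K).2 g⟩ : C.subgroupOf K) =
        e.symm x := by
      apply Subtype.ext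
      simp only [MulAut.conjNormal_apply]
      group
    rw [h7] at h6
    rw [← h6, cj_apply]
    show (η' : C → ℂ) (e (MulAut.conjNormal g⁻¹ (e.symm x))) = _
    congr 1
  rw [h4, h5] at h3
  exact h3

end Gen

local notation "Cn(" D ")" => Subgroup.centralizer (SetLike.coe D)

section Pair

variable {G : Type u} [Group G] {p : ℕ} {M : Ideal AlgInt} [Fintype G] [Fact p.Prime]
  {B : Set (IrrCharacter G)} {D : Subgroup G} [hDn : D.Normal]

open scoped Classical in
/-- The block idempotent at a character of the centralizer. -/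
theorem omega_under (hM : IsPModular p M) (hB : IsPBlock M B) (hDp : IsPGroup p D)
    [Fintype Cn(D)] (η : IrrCharacter Cn(D)) :
    ∑ x : Cn(D), blockCoeff B (x : G) * ((η : Cn(D) → ℂ) x / (η : Cn(D) → ℂ) 1) =
      if η ∈ underSet Cn(D) B then 1 else 0 := by
  have hprime : M.IsPrime := hM.2.1.isPrime
  have hCn : (Cn(D)).Normal := Subgroup.normal_centralizer
  have hU := H646.UCov.ucov_of_centralizer_le hM D hDp _ le_rfl
  have h3 := Blocks.Fong.sum_blockCoeff_mul (underSet Cn(D) B) η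
  have h4 : ∀ x : Cn(D), blockCoeff B (x : G) * ((η : Cn(D) → ℂ) x / (η : Cn(D) → ℂ) 1) =
      (blockCoeff (underSet Cn(D) B) x * (η : Cn(D) → ℂ) x) * ((η : Cn(D) → ℂ) 1)⁻¹ := by
    intro x
    rw [H646.UCov.blockCoeff_eq _ hU hB, dif_pos x.2, div_eq_mul_inv, mul_assoc]
  rw [Finset.sum_congr rfl fun x _ => h4 x, ← Finset.sum_mul, h3]
  split_ifs
  · exact mul_inv_cancel₀ (isIrr_apply_one_ne_zero η.2)
  · rw [zero_mul]

/-- Constituents on `C_G(D)` of the members of the block of a Brauer pair of `B`. -/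
theorem mem_underSet_of_pair (hM : IsPModular p M) (hB : IsPBlock M B) (hDp : IsPGroup p D)
    [Fintype Cn(D)] {Q : Subgroup G} {f : Set (IrrCharacter Cn(Q))}
    (hf : IsBrauerPairOf p M B Q f) {ξ : IrrCharacter Cn(Q)} (hξ : ξ ∈ f) (hCK : Cn(D) ≤ Cn(Q))
    {η : IrrCharacter Cn(D)}
    (hov : classInner (fun n : Cn(D) => (ξ : Cn(Q) → ℂ) ⟨n, hCK n.2⟩) (η : Cn(D) → ℂ) ≠ 0) :
    η ∈ underSet Cn(D) B := by
  classical
  have hprime : M.IsPrime := hM.2.1.isPrime
  have hCn : (Cn(D)).Normal := Subgroup.normal_centralizer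
  have := Fintype.ofFinite Cn(Q)
  by_contra hnot
  have h1 := hf.2.2 ξ hξ
  rw [H652.PairBasic.brauerOmega_eq_sum, omega_eq Cn(D) Cn(Q) hCK
    (Blocks.Fong.blockCoeff_isClassFunction B)
    (fun g hg => blockCoeff_eq_zero hM hB D hDp hg) ξ.2 η.2 hov, omega_under hM hB hDp,
    if_neg hnot, zero_sub, Blocks.Local.memLocalIdeal_neg_iff] at h1
  exact Blocks.Local.not_memLocalIdeal_one h1

/-- The characters of `C_G(D)` under `B` belong to Brauer pairs of `B`. -/
theorem pair_of_mem_underSet (hM : IsPModular p M) (hB : IsPBlock M B) (hDp : IsPGroup p D)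
    [Fintype Cn(D)] {η : IrrCharacter Cn(D)} (hη : η ∈ underSet Cn(D) B) :
    IsBrauerPairOf p M B D (blockOf M (η : Cn(D) → ℂ)) := by
  classical
  have hprime : M.IsPrime := hM.2.1.isPrime
  refine H652.PairBasic.isBrauerPairOf_of_mem hM hB hDp (Blocks.Basic.isPBlock_blockOf η)
    (Blocks.Basic.mem_blockOf_self η) ?_
  rw [H652.PairBasic.brauerOmega_eq_sum, omega_under hM hB hDp, if_pos hη, sub_self]
  exact Blocks.Local.memLocalIdeal_zero

end Pair

section Main

variable {G : Type u} [Group G] {p : ℕ} {M : Ideal AlgInt} [Fintype G] [Fact p.Prime]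
  {B : Set (IrrCharacter G)} {D N : Subgroup G} [hDn : D.Normal] [hNn : N.Normal] [Fintype N]
  {b : Set (IrrCharacter N)} {θ : IrrCharacter N}

omit [Fintype G] [Fact p.Prime] hNn [Fintype N] in
/-- `N` fixes the characters of `C_G(D)`. -/
theorem cj_eq_self [(Cn(D)).Normal] (h : Data p M B D N b θ) {n : G} (hn : n ∈ N)
    (η : IrrCharacter Cn(D)) : cj Cn(D) n η = η := by
  obtain ⟨d, hd, c, hc, rfl⟩ := exists_mul h.eqN hn
  apply Subtype.ext
  funext x
  rw [cj_apply]
  have h1 : (MulAut.conjNormal (d * c) x : Cn(D)) = (⟨c, hc⟩ : Cn(D)) * x * (⟨c, hc⟩ : Cn(D))⁻¹ := by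
    apply Subtype.ext
    rw [MulAut.conjNormal_apply]
    have h2 : c * (x : G) * c⁻¹ ∈ Cn(D) := (Cn(D)).mul_mem ((Cn(D)).mul_mem hc x.2)
      ((Cn(D)).inv_mem hc)
    have h3 := Subgroup.mem_centralizer_iff.1 h2 d hd
    simp only [Subgroup.coe_mul, Subgroup.coe_inv]
    calc d * c * (x : G) * (d * c)⁻¹ = (d * (c * (x : G) * c⁻¹)) * d⁻¹ := by group
      _ = c * (x : G) * c⁻¹ := by rw [h3]; group
  rw [h1]
  exact isIrr_isClassFunction η.2 x ⟨c, hc⟩

omit [Fintype G] hNn [Fintype N] in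
/-- The index of `C_G(D)` in `N` is a power of `p`. -/
theorem exists_index_pow [Finite G] (h : Data p M B D N b θ)
    [((Cn(D)).subgroupOf N).Normal] : ∃ k : ℕ, ((Cn(D)).subgroupOf N).index = p ^ k := by
  have hq : IsPGroup p (N ⧸ (Cn(D)).subgroupOf N) := by
    intro q
    obtain ⟨n, rfl⟩ := QuotientGroup.mk_surjective q
    obtain ⟨d, hd, c, hc, hdc⟩ := exists_mul h.eqN n.2
    obtain ⟨k, hk⟩ := h.isPGroup ⟨d, hd⟩
    refine ⟨k, ?_⟩
    have h1 : n = ⟨d, h.le hd⟩ * ⟨c, h.centralizer_le hc⟩ := Subtype.ext hdc.symm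
    have h2 : ((⟨c, h.centralizer_le hc⟩ : N) : N ⧸ (Cn(D)).subgroupOf N) = 1 :=
      (QuotientGroup.eq_one_iff _).2 (Subgroup.mem_subgroupOf.2 hc)
    rw [h1, QuotientGroup.mk_mul, h2, mul_one, ← QuotientGroup.mk_pow]
    have h3 : (⟨d, h.le hd⟩ : N) ^ p ^ k = 1 := by
      apply Subtype.ext
      have := congrArg Subtype.val hk
      simpa using this
    rw [h3]
    rfl
  exact IsPGroup.iff_card.1 hq

/-- If conjugation by `x` keeps a character of `C_G(D)` under `θ` inside its block, then `x` fixes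
`θ`. -/
theorem mem_inertia_of_sameBlock [(Cn(D)).Normal] [Fintype Cn(D)] (hM : IsPModular p M)
    (h : Data p M B D N b θ) {η : IrrCharacter Cn(D)}
    (hov : classInner (fun n : Cn(D) => (θ : N → ℂ) ⟨n, h.centralizer_le n.2⟩) (η : Cn(D) → ℂ) ≠ 0)
    {x : G} (hx : SameBlock M (η : Cn(D) → ℂ) (cj Cn(D) x η : Cn(D) → ℂ)) :
    x ∈ inertia N (θ : N → ℂ) := by
  classical
  have hprime : M.IsPrime := hM.2.1.isPrime
  have hCN := h.centralizer_le
  have := Fintype.ofFinite ((Cn(D)).subgroupOf N)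
  have hU := H646.UCov.ucov_of_index hM ((Cn(D)).subgroupOf N) (exists_index_pow h)
  let e : (Cn(D)).subgroupOf N ≃* Cn(D) := Subgroup.subgroupOfEquivOfLe hCN
  have he : ∀ y : (Cn(D)).subgroupOf N, ((e y : Cn(D)) : G) = ((y : N) : G) := fun _ => rfl
  let η₁ : IrrCharacter ((Cn(D)).subgroupOf N) :=
    ⟨fun y => (η : Cn(D) → ℂ) (e y), isIrr_comp (e : (Cn(D)).subgroupOf N →* Cn(D)) e.surjective η.2⟩
  let η₂ : IrrCharacter ((Cn(D)).subgroupOf N) :=
    ⟨fun y => (cj Cn(D) x η : Cn(D) → ℂ) (e y),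
      isIrr_comp (e : (Cn(D)).subgroupOf N →* Cn(D)) e.surjective (cj Cn(D) x η).2⟩
  have h1 : classInner (fun n : (Cn(D)).subgroupOf N => (θ : N → ℂ) n)
      (η₁ : (Cn(D)).subgroupOf N → ℂ) ≠ 0 := by
    intro h0
    apply hov
    rw [← h0]
    exact (classInner_comp_mulEquiv e (fun n : Cn(D) => (θ : N → ℂ) ⟨n, hCN n.2⟩)
      (η : Cn(D) → ℂ)).symm
  have h2 : classInner (fun n : (Cn(D)).subgroupOf N => (cj N x θ : N → ℂ) n)
      (η₂ : (Cn(D)).subgroupOf N → ℂ) ≠ 0 := by
    intro h0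
    apply hov
    let c : Cn(D) ≃* Cn(D) := MulAut.conjNormal x
    have h3 := classInner_comp_mulEquiv (e.trans c)
      (fun n : Cn(D) => (θ : N → ℂ) ⟨n, hCN n.2⟩) (η : Cn(D) → ℂ)
    rw [← h3, ← h0]
    congr 1
  have h3 := hU η₁ η₂ (sameBlock_comp e hx) θ (cj N x θ) h1 h2
  have h4 : cj N x θ ∈ b := Blocks.Basic.isPBlock_mem_of_sameBlock h.blk h.mem h3
  have h5 : cj N x θ = θ := by
    refine h.uniq _ h4 fun y hy => ?_
    rw [cj_apply, cj_apply, map_one]
    apply h.ker
    rw [Subgroup.mem_subgroupOf, MulAut.conjNormal_apply]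
    exact hDn.conj_mem _ (Subgroup.mem_subgroupOf.1 hy) x
  rw [mem_inertia]
  intro n
  rw [← cj_apply, h5]

omit [Fact p.Prime] hNn in
/-- Transitivity of lying over. -/
theorem over_trans {C : Subgroup G} [Fintype C] (hCN : C ≤ N) {χ : G → ℂ}
    (hχ : IsIrrCharacter G χ) {φ : N → ℂ} (hφ : IsIrrCharacter N φ) {η : C → ℂ}
    (hη : IsIrrCharacter C η) (h1 : classInner (fun n : N => χ n) φ ≠ 0)
    (h2 : classInner (fun c : C => φ ⟨c, hCN c.2⟩) η ≠ 0) :
    classInner (fun c : C => χ c) η ≠ 0 := by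
  classical
  have := finite_irr (G := N)
  have := Fintype.ofFinite (IrrCharacter N)
  obtain ⟨a, ha, ha'⟩ := CharDeep.CliffordCorr.exists_nat_coeffs
    (isCharacter_comp N.subtype (isIrr_isCharacter hχ))
  have haφ : a ⟨φ, hφ⟩ ≠ 0 := by
    intro h0
    have h3 := ha' ⟨φ, hφ⟩
    rw [h0, Nat.cast_zero] at h3
    exact h1 h3
  have hres : ∀ ψ : IrrCharacter N, IsCharacter C (fun c : C => (ψ : N → ℂ) ⟨c, hCN c.2⟩) :=
    fun ψ => isCharacter_comp (Subgroup.inclusion hCN) (isIrr_isCharacter ψ.2)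
  choose k hk using fun ψ : IrrCharacter N => classInner_isNat (hres ψ) (isIrr_isCharacter hη)
  have h3 : (fun c : C => χ c) = ∑ ψ : IrrCharacter N,
      (a ψ : ℂ) • (fun c : C => (ψ : N → ℂ) ⟨c, hCN c.2⟩) := by
    funext n
    have h4 := congrFun ha ⟨(n : G), hCN n.2⟩
    simp only [Finset.sum_apply, Pi.smul_apply, smul_eq_mul] at h4 ⊢
    exact h4
  rw [h3, classInner_sum_left]
  simp_rw [classInner_smul_left, hk]
  intro h4
  have h5 : ∑ ψ : IrrCharacter N, a ψ * k ψ = 0 := by exact_mod_cast h4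
  have h6 := (Finset.sum_eq_zero_iff.1 h5) ⟨φ, hφ⟩ (Finset.mem_univ _)
  have h7 := (Nat.mul_eq_zero.1 h6).resolve_left haφ
  apply h2
  have h8 := hk ⟨φ, hφ⟩
  rw [h7, Nat.cast_zero] at h8
  exact h8

omit [Fintype G] in
/-- Constituents on a smaller subgroup. -/
theorem exists_under {C K : Subgroup G} [Fintype C] [Finite K] (hCK : C ≤ K)
    (ξ : IrrCharacter K) :
    ∃ η : IrrCharacter C, classInner (fun n : C => (ξ : K → ℂ) ⟨n, hCK n.2⟩) (η : C → ℂ) ≠ 0 := by
  by_contra hcon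
  push Not at hcon
  have := Fintype.ofFinite K
  have h1 := classFunction_eq_zero (G := C) (f := fun n : C => (ξ : K → ℂ) ⟨n, hCK n.2⟩)
    (isCharacter_isClassFunction (isCharacter_comp (Subgroup.inclusion hCK)
      (isIrr_isCharacter ξ.2))) (fun θ hθ => hcon ⟨θ, hθ⟩)
  have h2 : (ξ : K → ℂ) 1 = 0 := congrFun h1 1
  exact isIrr_apply_one_ne_zero ξ.2 h2

end Main

end Cfsg.Agent.H700.NormNil
end
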