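import Mathlib
import Cfsg.Prelude.Def_Blocks
import Cfsg.Agent.Blocks.Basic
import Cfsg.Agent.Blocks.ClassSum
import Cfsg.Agent.Blocks.Elementary
import Cfsg.Agent.Blocks.BlockIdem
import Cfsg.Agent.Blocks.Residue
import Cfsg.Agent.CharactersDeep.ExtUnique
import Cfsg.Agent.CharactersDeep.AbelianQuotient
import Cfsg.Agent.S0913
set_option linter.all false

/-!
# Characters of degree prime to `p` in the principal `p`-block

`mem_principalBlock_iff`: an irreducible character `χ` of degree prime to `p` lies in the principal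
`p`-block iff `χ x ≡ χ 1` for all `x` centralizing a given Sylow `p`-subgroup.

`exists_twist_mem`: `N` normal in `G`, commutative quotient of order prime to `p`, every coset of
`N` contains an element centralizing a Sylow `p`-subgroup of `G`; if `χ₀` is an irreducible
character of `G` of degree prime to `p` whose restriction to `N` is irreducible and in the
principal block of `N`, then some twist of `χ₀` with a linear character of `G ⧸ N` is in the
principal block of `G`.
-/

set_option autoImplicit false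

open Cfsg
open scoped Pointwise

namespace Cfsg.Agent.H700.PrinCrit

open Blocks.Basic Blocks.Local

variable {G : Type*} [Group G] {p : ℕ} {M : Ideal AlgInt}

/-- The constant character. -/
def oneIrr (G : Type*) [Group G] : IrrCharacter G := ⟨fun _ => 1, isIrrCharacter_one⟩

theorem isPBlock_principal (M : Ideal AlgInt) (G : Type*) [Group G] :
    IsPBlock M (principalBlock M G) := ⟨oneIrr G, rfl⟩

theorem one_mem_principal [M.IsPrime] : oneIrr G ∈ principalBlock M G :=
  mem_blockOf_self (oneIrr G)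

theorem memLocalRing_irr [Finite G] [M.IsPrime] {χ : G → ℂ} (hχ : IsIrrCharacter G χ) (g : G) :
    MemLocalRing M (χ g) := by
  classical
  have := Fintype.ofFinite G
  exact Blocks.Elementary.memLocalRing_char hχ g

/-- conjugates of a subgroup of index prime to `p`: an element whose class has size prime to `p`
centralizes a conjugate of any `p`-subgroup. -/
theorem exists_conj_mem_centralizer [Finite G] [Fact p.Prime] {Q : Subgroup G} (hQ : IsPGroup p Q)
    {g : G} (hg : ¬ p ∣ (Subgroup.centralizer ({g} : Set G)).index) :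
    ∃ h : G, h * g * h⁻¹ ∈ Subgroup.centralizer (Q : Set G) := by
  classical
  obtain ⟨P, hP⟩ := hQ.exists_le_sylow
  -- a Sylow subgroup of the centralizer is Sylow in `G`
  let C := Subgroup.centralizer ({g} : Set G)
  let S : Sylow p C := default
  let T : Subgroup G := (S : Subgroup C).map C.subtype
  have hT : IsPGroup p T := S.2.map _
  have hTi : ¬ p ∣ T.index := by
    have h1 : T.index = (S : Subgroup C).index * C.index := by
      rw [Subgroup.index_map_subtype]
    rw [h1, (Fact.out : p.Prime).dvd_mul]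
    rintro (h | h)
    · exact S.not_dvd_index h
    · exact hg h
  let T' : Sylow p G := hT.toSylow hTi
  obtain ⟨h, hh⟩ := MulAction.exists_smul_eq G T' P
  refine ⟨h, ?_⟩
  rw [Subgroup.mem_centralizer_iff]
  intro q hq
  have h1 : q ∈ (P : Subgroup G) := hP hq
  rw [← hh, Sylow.smul_def] at h1
  have h2 : q ∈ (MulAut.conj h • (T' : Subgroup G) : Subgroup G) := h1
  rw [Subgroup.mem_smul_pointwise_iff_exists] at h2
  obtain ⟨t, ht, rfl⟩ := h2
  have ht' : t ∈ T := ht
  obtain ⟨c, -, rfl⟩ := ht'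
  have h3 := Subgroup.mem_centralizer_singleton_iff.1 c.2
  simp only [MulAut.smul_def, MulAut.conj_apply, Subgroup.coe_subtype]
  rw [show h * (c : G) * h⁻¹ * (h * g * h⁻¹) = h * ((c : G) * g) * h⁻¹ by group, h3]
  group

theorem not_dvd_index_of_mem_centralizer [Finite G] [Fact p.Prime] {Q : Subgroup G}
    (hQi : ¬ p ∣ Q.index) {g : G} (hg : g ∈ Subgroup.centralizer (Q : Set G)) :
    ¬ p ∣ (Subgroup.centralizer ({g} : Set G)).index := by
  intro h
  have hle : Q ≤ Subgroup.centralizer ({g} : Set G) := by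
    intro q hq
    rw [Subgroup.mem_centralizer_singleton_iff]
    exact (Subgroup.mem_centralizer_iff.1 hg q hq)
  exact hQi (h.trans (Subgroup.index_dvd_of_le hle))

/-- **Criterion**: characters of degree prime to `p` in the principal block. -/
theorem mem_principalBlock_iff [Finite G] [Fact p.Prime] (hM : IsPModular p M) {Q : Subgroup G}
    (hQ : IsPGroup p Q) (hQi : ¬ p ∣ Q.index) (χ : IrrCharacter G)
    (hd : ¬ p ∣ charDegree (χ : G → ℂ)) :
    χ ∈ principalBlock M G ↔
      ∀ x ∈ Subgroup.centralizer (Q : Set G), MemLocalIdeal M ((χ : G → ℂ) x - (χ : G → ℂ) 1) := by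
  classical
  have hMp : M.IsPrime := isPrime_of_isPModular hM
  have hχ1 : (χ : G → ℂ) 1 = (charDegree (χ : G → ℂ) : ℂ) := irr_one_eq_charDegree χ.2
  have hne : (χ : G → ℂ) 1 ≠ 0 := irr_one_ne_zero χ.2
  have hinv : MemLocalRing M (((χ : G → ℂ) 1)⁻¹) := by
    rw [hχ1]; exact memLocalRing_inv_natCast hM hd
  have hcc : ∀ g, centralChar (fun _ : G => (1 : ℂ)) g - centralChar (χ : G → ℂ) g =
      ((Subgroup.centralizer ({g} : Set G)).index : ℂ) *
        (((χ : G → ℂ) 1)⁻¹ * ((χ : G → ℂ) 1 - (χ : G → ℂ) g)) := by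
    intro g
    rw [centralChar_def, centralChar_def]
    field_simp
  constructor
  · intro h x hx
    have h1 : MemLocalIdeal M (centralChar (fun _ : G => (1 : ℂ)) x - centralChar (χ : G → ℂ) x) :=
      h x
    rw [hcc] at h1
    have hi := not_dvd_index_of_mem_centralizer (p := p) hQi hx
    have h2 : MemLocalIdeal M ((χ : G → ℂ) 1 * (((Subgroup.centralizer ({x} : Set G)).index : ℂ)⁻¹ *
        (((Subgroup.centralizer ({x} : Set G)).index : ℂ) *
        (((χ : G → ℂ) 1)⁻¹ * ((χ : G → ℂ) 1 - (χ : G → ℂ) x))))) := by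
      apply memLocalIdeal_mul_left (memLocalRing_irr χ.2 1)
      exact memLocalIdeal_mul_left (memLocalRing_inv_natCast hM hi) h1
    have hi0 : ((Subgroup.centralizer ({x} : Set G)).index : ℂ) ≠ 0 := by
      intro h0
      rw [Nat.cast_eq_zero] at h0
      rw [h0] at hi
      exact hi (dvd_zero p)
    have h3 : (χ : G → ℂ) 1 * (((Subgroup.centralizer ({x} : Set G)).index : ℂ)⁻¹ *
        (((Subgroup.centralizer ({x} : Set G)).index : ℂ) *
        (((χ : G → ℂ) 1)⁻¹ * ((χ : G → ℂ) 1 - (χ : G → ℂ) x)))) =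
        (χ : G → ℂ) 1 - (χ : G → ℂ) x := by
      field_simp
    rw [h3] at h2
    exact memLocalIdeal_sub_comm h2
  · intro h g
    rw [hcc]
    by_cases hg : p ∣ (Subgroup.centralizer ({g} : Set G)).index
    · apply memLocalIdeal_mul_right ((memLocalIdeal_natCast_iff hM _).2 hg)
      exact memLocalRing_mul hinv (memLocalRing_sub (memLocalRing_irr χ.2 1)
        (memLocalRing_irr χ.2 g))
    · obtain ⟨k, hk⟩ := exists_conj_mem_centralizer hQ hg
      apply memLocalIdeal_mul_left (memLocalRing_natCast _)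
      apply memLocalIdeal_mul_left hinv
      have h1 := h _ hk
      rw [irr_conj χ.2] at h1
      exact memLocalIdeal_sub_comm h1

/-- Roots of unity of order prime to `p` that are congruent modulo `M` are equal. -/
theorem eq_one_of_sub_mem (hM : IsPModular p M) {z : ℂ} {m : ℕ} (hm : ¬ p ∣ m) (hz : z ^ m = 1)
    (h : MemLocalIdeal M (z - 1)) : z = 1 := by
  have hMp : M.IsPrime := isPrime_of_isPModular hM
  have hm0 : 0 < m := by
    rcases Nat.eq_zero_or_pos m with h0 | h0
    · exact absurd (h0 ▸ dvd_zero p) hm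
    · exact h0
  have hint : IsIntegral ℤ z := by
    refine ⟨Polynomial.X ^ m - 1, Polynomial.monic_X_pow_sub_C 1 hm0.ne', ?_⟩
    simp [hz]
  let ε : AlgInt := ⟨z, hint⟩
  have h1 : ε - 1 ∈ M := by
    rw [← memLocalIdeal_algInt_iff (M := M)]
    exact h
  have h2 := Blocks.Residue.eq_of_sub_mem hM (ε₁ := ε) (ε₂ := 1) ⟨m, hm, hz⟩ ⟨m, hm, by simp⟩ h1
  exact congrArg (fun x : AlgInt => (x : ℂ)) h2

/-- the twist of an irreducible character with a linear character -/
noncomputable def mulHom (χ : IrrCharacter G) (β : G →* ℂˣ) : IrrCharacter G :=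
  ⟨fun g => (χ : G → ℂ) g * β g, CharactersDeep.ExtUnique.isIrr_mul_hom χ.2 β⟩

theorem mulHom_apply (χ : IrrCharacter G) (β : G →* ℂˣ) (g : G) :
    (mulHom χ β : G → ℂ) g = (χ : G → ℂ) g * β g := rfl

theorem charDegree_mulHom (χ : IrrCharacter G) (β : G →* ℂˣ) :
    charDegree (mulHom χ β : G → ℂ) = charDegree (χ : G → ℂ) := by
  rw [charDegree_def, charDegree_def, mulHom_apply, map_one, Units.val_one, mul_one]

theorem card_eq_sum [Fintype G] (N : Subgroup G) [N.Normal] [Fintype N]
    (Λ : Finset (G →* ℂˣ)) (hΛ1 : ∀ g ∈ N, ∑ l ∈ Λ, (l g : ℂ) = N.index)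
    (hΛ2 : ∀ g ∉ N, ∑ l ∈ Λ, (l g : ℂ) = 0) (B : Set (IrrCharacter G)) [DecidablePred (· ∈ B)]
    (χ : IrrCharacter G) :
    (N.index : ℂ) * ∑ n : N, blockCoeff B (n : G) * (χ : G → ℂ) n =
      (Λ.filter (fun l => mulHom χ l ∈ B)).card * (χ : G → ℂ) 1 := by
  classical
  have h1 : ∀ l ∈ Λ, Blocks.ConvCentral.lin (mulHom χ l : G → ℂ) (blockCoeff B) =
      if mulHom χ l ∈ B then (χ : G → ℂ) 1 else 0 := by
    intro l _
    rw [Blocks.BlockIdem.lin_blockCoeff, mulHom_apply, map_one, Units.val_one, mul_one]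
    by_cases hm : mulHom χ l ∈ B <;> simp [hm]
  have h2 : ∑ l ∈ Λ, Blocks.ConvCentral.lin (mulHom χ l : G → ℂ) (blockCoeff B) =
      (Λ.filter (fun l => mulHom χ l ∈ B)).card * (χ : G → ℂ) 1 := by
    rw [Finset.sum_congr rfl h1, ← Finset.sum_filter, Finset.sum_const, nsmul_eq_mul]
  rw [← h2]
  simp only [Blocks.ConvCentral.lin_def, mulHom_apply]
  rw [Finset.sum_comm]
  have h3 : ∀ g : G, ∑ l ∈ Λ, blockCoeff B g * ((χ : G → ℂ) g * (l g : ℂ)) =
      if g ∈ N then (N.index : ℂ) * (blockCoeff B g * (χ : G → ℂ) g) else 0 := by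
    intro g
    rw [← Finset.mul_sum, ← Finset.mul_sum]
    split_ifs with hg
    · rw [hΛ1 g hg]; ring
    · rw [hΛ2 g hg]; ring
  rw [Finset.sum_congr rfl (fun g _ => h3 g), ← Finset.sum_filter, ← Finset.mul_sum]
  congr 1
  refine Finset.sum_bij' (fun (n : N) _ => (n : G)) (fun g hg => ⟨g, (Finset.mem_filter.1 hg).2⟩)
    ?_ ?_ ?_ ?_ ?_
  · intro n _
    simp
  · intro g hg
    simp
  · intro n _
    rfl
  · intro g hg
    rfl
  · intro n _
    rfl

/-- **Existence of an extension in the principal block**, commutative quotient of order prime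
to `p`. -/
theorem exists_twist_mem [Finite G] [Fact p.Prime] (hM : IsPModular p M) {Q : Subgroup G}
    (hQ : IsPGroup p Q) (hQi : ¬ p ∣ Q.index) (N : Subgroup G) [N.Normal]
    (hab : ∀ x y : G, x * y * x⁻¹ * y⁻¹ ∈ N) (hpN : ¬ p ∣ N.index)
    (hcos : ∀ g : G, ∃ x ∈ Subgroup.centralizer (Q : Set G), g⁻¹ * x ∈ N)
    (θ : IrrCharacter N) (hθ : θ ∈ principalBlock M N)
    (χ₀ : IrrCharacter G) (h : ∀ n : N, (χ₀ : G → ℂ) n = (θ : N → ℂ) n) :
    ∃ β : G →* ℂˣ, (∀ n ∈ N, β n = 1) ∧ mulHom χ₀ β ∈ principalBlock M G := by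
  classical
  have hMp : M.IsPrime := isPrime_of_isPModular hM
  have := Fintype.ofFinite G
  have := Fintype.ofFinite N
  obtain ⟨Λ, hΛ, hΛc, hΛ1, hΛ2⟩ := CharactersDeep.AbelianQuotient.exists_linear_dual N hab
  set B := principalBlock M G with hB
  have hm0 : (N.index : ℂ) ≠ 0 := Nat.cast_ne_zero.2 Subgroup.index_ne_zero_of_finite
  have e1 := card_eq_sum N Λ hΛ1 hΛ2 B χ₀
  have e2 := card_eq_sum N Λ hΛ1 hΛ2 B (oneIrr G)
  -- the trivial character: only one twist
  have hone : Λ.filter (fun l => mulHom (oneIrr G) l ∈ B) = {1} := by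
    ext l
    simp only [Finset.mem_filter, Finset.mem_singleton]
    constructor
    · rintro ⟨hl, hlB⟩
      have hdeg : ¬ p ∣ charDegree (mulHom (oneIrr G) l : G → ℂ) := by
        rw [charDegree_mulHom, charDegree_of_eq (n := 1) (by simp [oneIrr])]
        exact (Fact.out : p.Prime).one_lt.ne' ∘ Nat.dvd_one.1
      have h1 := (mem_principalBlock_iff hM hQ hQi _ hdeg).1 hlB
      have h2 : ∀ x ∈ Subgroup.centralizer (Q : Set G), l x = 1 := by
        intro x hx
        have h3 := h1 x hx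
        rw [mulHom_apply, mulHom_apply] at h3
        simp only [oneIrr, one_mul, map_one, Units.val_one] at h3
        have h4 : (l x : ℂ) ^ N.index = 1 := by
          rw [← Units.val_pow_eq_pow_val, ← map_pow, (hΛ l).1 hl _ (N.pow_index_mem x),
            Units.val_one]
        exact Units.ext (eq_one_of_sub_mem hM hpN h4 h3)
      ext g
      obtain ⟨x, hx, hxg⟩ := hcos g
      have h5 := (hΛ l).1 hl _ hxg
      rw [map_mul, map_inv, h2 x hx, mul_one, inv_eq_one] at h5
      rw [h5]
      rfl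
    · rintro rfl
      refine ⟨(hΛ 1).2 fun n _ => rfl, ?_⟩
      have h6 : mulHom (oneIrr G) 1 = oneIrr G := by
        apply Subtype.ext
        funext g
        rw [mulHom_apply]
        simp
      rw [h6]
      exact one_mem_principal
  rw [hone, Finset.card_singleton] at e2
  -- congruence of central characters on `N`
  have hcl : IsClassFunction N (fun n : N => blockCoeff B (n : G)) := fun a b =>
    Blocks.BlockIdem.isClassFunction_blockCoeff B (a : G) (b : G)
  have hR : ∀ n : N, MemLocalRing M (blockCoeff B (n : G)) := fun n =>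
    S0913.result p M hM B (isPBlock_principal M G) n
  have key := Blocks.ClassSum.memLocalIdeal_of_sameBlock (M := M)
    (χ := fun _ : N => (1 : ℂ)) (ψ := (θ : N → ℂ)) (fun _ _ => rfl) (irr_isClassFunction θ.2)
    hθ hcl hR
  have hθ1 : (θ : N → ℂ) 1 ≠ 0 := irr_one_ne_zero θ.2
  have hχθ : (χ₀ : G → ℂ) 1 = (θ : N → ℂ) 1 := h 1
  have f1 : ∑ n : N, blockCoeff B (n : G) * ((1 : ℂ) / 1) = (N.index : ℂ)⁻¹ := by
    have h7 : (N.index : ℂ) * ∑ n : N, blockCoeff B (n : G) * ((1 : ℂ) / 1) = 1 := by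
      simpa [oneIrr] using e2
    field_simp
    simpa [mul_comm] using h7
  have f2 : ∑ n : N, blockCoeff B (n : G) * ((θ : N → ℂ) n / (θ : N → ℂ) 1) =
      (N.index : ℂ)⁻¹ * (Λ.filter (fun l => mulHom χ₀ l ∈ B)).card := by
    have h8 : ∑ n : N, blockCoeff B (n : G) * ((θ : N → ℂ) n / (θ : N → ℂ) 1) =
        (∑ n : N, blockCoeff B (n : G) * (χ₀ : G → ℂ) n) / (θ : N → ℂ) 1 := by
      rw [Finset.sum_div]
      refine Finset.sum_congr rfl fun n _ => ?_
      rw [h n]
      ring
    rw [h8, div_eq_iff hθ1]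
    apply mul_left_cancel₀ hm0
    rw [e1, hχθ]
    field_simp
  rw [f1, f2] at key
  by_contra hno
  push Not at hno
  have hempty : Λ.filter (fun l => mulHom χ₀ l ∈ B) = ∅ := by
    rw [Finset.filter_eq_empty_iff]
    intro l hl
    exact hno l ((hΛ l).1 hl)
  rw [hempty, Finset.card_empty, Nat.cast_zero, mul_zero, sub_zero] at key
  have h9 := memLocalIdeal_mul_left (memLocalRing_natCast (M := M) N.index) key
  rw [mul_inv_cancel₀ hm0] at h9
  exact not_memLocalIdeal_one h9

/-- **Uniqueness of the extension in the principal block**, quotient of order prime to `p`. -/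
theorem eq_of_mem [Finite G] [Fact p.Prime] (hM : IsPModular p M) {Q : Subgroup G}
    (hQ : IsPGroup p Q) (hQi : ¬ p ∣ Q.index) (N : Subgroup G) [N.Normal] (hpN : ¬ p ∣ N.index)
    (hcos : ∀ g : G, ∃ x ∈ Subgroup.centralizer (Q : Set G), g⁻¹ * x ∈ N)
    (θ : IrrCharacter N) (hd : ¬ p ∣ charDegree (θ : N → ℂ)) {χ χ' : IrrCharacter G}
    (hχ : χ ∈ principalBlock M G) (hχ' : χ' ∈ principalBlock M G)
    (h : ∀ n : N, (χ : G → ℂ) n = (θ : N → ℂ) n) (h' : ∀ n : N, (χ' : G → ℂ) n = (θ : N → ℂ) n) :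
    χ = χ' := by
  have hMp : M.IsPrime := isPrime_of_isPModular hM
  obtain ⟨β, hβ1, hβ⟩ := CharactersDeep.ExtUnique.exists_hom_mul_of_restrict_eq N
    (irr_isCharacter χ.2) (irr_isCharacter χ'.2) θ.2 h h'
  have h1 : (χ : G → ℂ) 1 = (θ : N → ℂ) 1 := h 1
  have h1' : (χ' : G → ℂ) 1 = (θ : N → ℂ) 1 := h' 1
  have hdχ : ¬ p ∣ charDegree (χ : G → ℂ) := by
    rw [charDegree_def, h1, ← charDegree_def]; exact hd
  have hdχ' : ¬ p ∣ charDegree (χ' : G → ℂ) := by
    rw [charDegree_def, h1', ← charDegree_def]; exact hd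
  have c1 := (mem_principalBlock_iff hM hQ hQi χ hdχ).1 hχ
  have c2 := (mem_principalBlock_iff hM hQ hQi χ' hdχ').1 hχ'
  have hb : ∀ x ∈ Subgroup.centralizer (Q : Set G), β x = 1 := by
    intro x hx
    have d1 := c1 x hx
    have d2 := c2 x hx
    rw [h1', ← h1, hβ] at d2
    have d3 : MemLocalIdeal M ((χ : G → ℂ) x * ((β x : ℂ) - 1)) := by
      have := memLocalIdeal_sub d2 d1
      rwa [show (χ : G → ℂ) x * (β x : ℂ) - (χ : G → ℂ) 1 - ((χ : G → ℂ) x - (χ : G → ℂ) 1) =
        (χ : G → ℂ) x * ((β x : ℂ) - 1) by ring] at this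
    have hroot : (β x : ℂ) ^ N.index = 1 := by
      rw [← Units.val_pow_eq_pow_val, ← map_pow, hβ1 _ (N.pow_index_mem x), Units.val_one]
    have hβR : MemLocalRing M ((β x : ℂ) - 1) := by
      apply memLocalRing_sub _ memLocalRing_one
      apply memLocalRing_of_isIntegral
      refine ⟨Polynomial.X ^ N.index - 1,
        Polynomial.monic_X_pow_sub_C 1 Subgroup.index_ne_zero_of_finite, ?_⟩
      simp [hroot]
    rcases memLocalIdeal_or_of_mul (memLocalRing_irr χ.2 x) hβR d3 with d4 | d4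
    · exfalso
      have d5 : MemLocalIdeal M ((χ : G → ℂ) 1) := by
        have := memLocalIdeal_sub d4 d1
        rwa [sub_sub_cancel] at this
      rw [irr_one_eq_charDegree χ.2, memLocalIdeal_natCast_iff hM] at d5
      exact hdχ d5
    · exact Units.ext (eq_one_of_sub_mem hM hpN hroot d4)
  apply Subtype.ext
  funext g
  obtain ⟨x, hx, hxg⟩ := hcos g
  have h5 := hβ1 _ hxg
  rw [map_mul, map_inv, hb x hx, mul_one, inv_eq_one] at h5
  rw [hβ, h5, Units.val_one, mul_one]

end Cfsg.Agent.H700.PrinCrit
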