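import Mathlib
import Cfsg.Agent.H700.PrinCrit
import Cfsg.Agent.Blocks.Covering
import Cfsg.Agent.Blocks.CliffordCentral
import Cfsg.Agent.S0886
set_option linter.all false

/-!
# Extensions to the principal block, quotient a `q`-group, `q ≠ p`

`N` normal in `G` with `G = N C_G(Q)` for a Sylow `p`-subgroup `Q` of `N` and `G ⧸ N` a `q`-group,
`q ≠ p` prime.  A `G`-invariant irreducible character of `N` of degree prime to `p` in the principal
`p`-block of `N` has an extension in the principal `p`-block of `G`.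
-/

set_option autoImplicit false

open Cfsg
open scoped Pointwise

namespace Cfsg.Agent.H700.PrinExt

open Blocks.Basic Blocks.Local PrinCrit

universe u

/-- transport of an irreducible character along an isomorphism -/
noncomputable def mapIrr {G H : Type*} [Group G] [Group H] (e : G ≃* H) (θ : IrrCharacter H) :
    IrrCharacter G :=
  ⟨fun g => (θ : H → ℂ) (e g), Blocks.CliffordCentral.isIrrCharacter_comp θ.2 e.toMonoidHom
    e.surjective⟩

theorem mapIrr_apply {G H : Type*} [Group G] [Group H] (e : G ≃* H) (θ : IrrCharacter H) (g : G) :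
    (mapIrr e θ : G → ℂ) g = (θ : H → ℂ) (e g) := rfl

theorem mapIrr_mem {G H : Type*} [Group G] [Group H] (e : G ≃* H) {M : Ideal AlgInt}
    {θ : IrrCharacter H} (h : θ ∈ principalBlock M H) : mapIrr e θ ∈ principalBlock M G := by
  intro g
  have h1 := Blocks.Covering.centralChar_comp_equiv e (θ : H → ℂ) g
  have h2 := Blocks.Covering.centralChar_comp_equiv e (fun _ : H => (1 : ℂ)) g
  change MemLocalIdeal M (centralChar (fun _ : G => (1 : ℂ)) g -
    centralChar (fun x => (θ : H → ℂ) (e x)) g)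
  rw [h1]
  rw [h2]
  exact h (e g)

theorem charDegree_mapIrr {G H : Type*} [Group G] [Group H] (e : G ≃* H) (θ : IrrCharacter H) :
    charDegree (mapIrr e θ : G → ℂ) = charDegree (θ : H → ℂ) := by
  rw [charDegree_def, charDegree_def, mapIrr_apply, map_one]

/-- a group of order `q ^ (k + 1)`-index: a normal subgroup of index `q` above `N`. -/
theorem exists_normal_index {G : Type*} [Group G] [Finite G] {q : ℕ} (hq : q.Prime) {k : ℕ}
    (N : Subgroup G) [N.Normal] (hk : N.index = q ^ (k + 1)) :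
    ∃ L : Subgroup G, L.Normal ∧ N ≤ L ∧ L.index = q := by
  classical
  have : Fact q.Prime := ⟨hq⟩
  have hcard : Nat.card (G ⧸ N) = q ^ (k + 1) := by
    rw [← Subgroup.index_eq_card]; exact hk
  obtain ⟨K, hK⟩ := Sylow.exists_subgroup_card_pow_prime (G := G ⧸ N) q (n := k)
    (by rw [hcard]; exact pow_dvd_pow q (Nat.le_succ k))
  have hKi : K.index = q := by
    have h1 := K.card_mul_index
    rw [hK, hcard, pow_succ] at h1
    exact Nat.eq_of_mul_eq_mul_left (pow_pos hq.pos k) h1
  have hKn : K.Normal := by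
    apply Subgroup.normal_of_index_eq_minFac_card
    rw [hKi, hcard, Nat.pow_minFac (Nat.succ_ne_zero k), hq.minFac_eq]
  refine ⟨K.comap (QuotientGroup.mk' N), inferInstance, ?_, ?_⟩
  · intro n hn
    rw [Subgroup.mem_comap]
    have : QuotientGroup.mk' N n = 1 := by
      rw [QuotientGroup.mk'_apply, QuotientGroup.eq_one_iff]; exact hn
    rw [this]
    exact K.one_mem
  · rw [Subgroup.index_comap_of_surjective K (QuotientGroup.mk'_surjective N), hKi]

theorem exists_ext_qgroup {p q : ℕ} [Fact p.Prime] (hq : q.Prime) (hqp : q ≠ p)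
    {M : Ideal AlgInt} (hM : IsPModular p M) :
    ∀ (k : ℕ) {G : Type u} [Group G] [Finite G] (Q : Subgroup G) (_ : IsPGroup p Q)
      (_ : ¬ p ∣ Q.index) (N : Subgroup G) [hN : N.Normal] (_ : Q ≤ N) (_ : N.index = q ^ k)
      (_ : ∀ g : G, ∃ x ∈ Subgroup.centralizer (Q : Set G), g⁻¹ * x ∈ N)
      (θ : IrrCharacter N) (_ : θ ∈ principalBlock M N) (_ : ¬ p ∣ charDegree (θ : N → ℂ))
      (_ : ∀ (g : G) (n : N), (θ : N → ℂ) ⟨g * n * g⁻¹, hN.conj_mem n n.2 g⟩ = (θ : N → ℂ) n),
      ∃ χ : IrrCharacter G, χ ∈ principalBlock M G ∧ ∀ n : N, (χ : G → ℂ) n = (θ : N → ℂ) n := by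
  intro k
  induction k with
  | zero =>
    intro G _ _ Q hQ hQi N hN hQN hk hcos θ hθ hd hinv
    have hNt : N = ⊤ := by
      rw [pow_zero] at hk
      exact Subgroup.index_eq_one.1 hk
    subst hNt
    refine ⟨mapIrr Subgroup.topEquiv.symm θ, mapIrr_mem _ hθ, fun n => ?_⟩
    rw [mapIrr_apply]
    rfl
  | succ k ih =>
    intro G _ _ Q hQ hQi N hN hQN hk hcos θ hθ hd hinv
    have hMp : M.IsPrime := isPrime_of_isPModular hM
    have hp : p.Prime := Fact.out
    obtain ⟨L, hL, hNL, hLi⟩ := exists_normal_index hq N hk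
    have hQL : Q ≤ L := hQN.trans hNL
    have hpq : ¬ p ∣ q := fun h => hqp ((Nat.prime_dvd_prime_iff_eq hp hq).1 h).symm
    have hrel : N.relIndex L = q ^ k := by
      have h1 := Subgroup.relIndex_mul_index hNL
      rw [hLi, hk, pow_succ] at h1
      exact Nat.eq_of_mul_eq_mul_right hq.pos h1
    have hQL' : ¬ p ∣ (Q.subgroupOf L).index := by
      intro h
      apply hQi
      have h1 := Subgroup.relIndex_mul_index hQL
      rw [← h1]
      exact Dvd.dvd.mul_right h _
    have hQp : IsPGroup p (Q.subgroupOf L) := hQ.comap_subtype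
    have hcos' : ∀ g : L, ∃ x ∈ Subgroup.centralizer ((Q.subgroupOf L : Subgroup L) : Set L),
        g⁻¹ * x ∈ N.subgroupOf L := by
      intro g
      obtain ⟨x, hx, hxg⟩ := hcos (g : G)
      have hxL : x ∈ L := by
        have := L.mul_mem g.2 (hNL hxg)
        rwa [mul_inv_cancel_left] at this
      refine ⟨⟨x, hxL⟩, ?_, hxg⟩
      rw [Subgroup.mem_centralizer_iff]
      intro y hy
      apply Subtype.ext
      exact Subgroup.mem_centralizer_iff.1 hx (y : G) hy
    let e : N.subgroupOf L ≃* N := Subgroup.subgroupOfEquivOfLe hNL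
    have he : ∀ x : N.subgroupOf L, ((e x : N) : G) = ((x : L) : G) := fun x => rfl
    have hNLn : (N.subgroupOf L).Normal := hN.subgroupOf L
    have hNLi : (N.subgroupOf L).index = q ^ k := hrel
    have hinv' : ∀ (g : L) (n : N.subgroupOf L),
        (mapIrr e θ : N.subgroupOf L → ℂ) ⟨g * n * g⁻¹, hNLn.conj_mem n n.2 g⟩ =
          (mapIrr e θ : N.subgroupOf L → ℂ) n := by
      intro g n
      rw [mapIrr_apply, mapIrr_apply]
      have := hinv (g : G) (e n)
      rw [← this]
      congr 1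
    obtain ⟨χL, hχL, hχLθ⟩ := ih (Q.subgroupOf L) hQp hQL' (N.subgroupOf L)
      (Subgroup.comap_mono hQN) hNLi hcos' (mapIrr e θ) (mapIrr_mem e hθ)
      (by rw [charDegree_mapIrr]; exact hd) hinv'
    have hpk : ¬ p ∣ (N.subgroupOf L).index := by
      rw [hNLi]
      exact fun h => hpq (hp.dvd_of_dvd_pow h)
    have hdL : ¬ p ∣ charDegree (χL : L → ℂ) := by
      have h1 : (χL : L → ℂ) 1 = (θ : N → ℂ) 1 := by
        have := hχLθ 1
        rw [mapIrr_apply, map_one] at this
        exact this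
      rw [charDegree_def, h1, ← charDegree_def]
      exact hd
    -- invariance
    have hinvL : ∀ (g : G) (l : L), (χL : L → ℂ) ⟨g * l * g⁻¹, hL.conj_mem l l.2 g⟩ =
        (χL : L → ℂ) l := by
      intro g l
      have h1 : Blocks.Covering.conjIrr L g χL = χL := by
        refine eq_of_mem hM hQp hQL' (N.subgroupOf L) hpk hcos' (mapIrr e θ)
          (by rw [charDegree_mapIrr]; exact hd) ?_ hχL ?_ hχLθ
        · exact mapIrr_mem (MulAut.conjNormal (H := L) g) hχL
        · intro n
          have hn : g * ((n : L) : G) * g⁻¹ ∈ N := hN.conj_mem _ n.2 g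
          have h2 := hχLθ ⟨⟨g * ((n : L) : G) * g⁻¹, hNL hn⟩, hn⟩
          have h3 := hinv g (e n)
          exact h2.trans h3
      have h4 := congrArg (fun χ : IrrCharacter L => (χ : L → ℂ) l) h1
      exact h4
    have hcyc : IsCyclic (G ⧸ L) := by
      have : Fact q.Prime := ⟨hq⟩
      apply isCyclic_of_prime_card (p := q)
      rw [← Subgroup.index_eq_card, hLi]
    obtain ⟨χ₀, hχ₀, hχ₀L⟩ := S0886.result L hcyc (χL : L → ℂ) χL.2 hinvL
    have hab : ∀ x y : G, x * y * x⁻¹ * y⁻¹ ∈ L := by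
      intro x y
      have hcomm : ∀ a b : G ⧸ L, a * b = b * a := by
        let := hcyc.commGroup
        exact fun a b => mul_comm a b
      rw [← QuotientGroup.eq_one_iff]
      have h5 := hcomm (x : G ⧸ L) (y : G ⧸ L)
      change (x : G ⧸ L) * (y : G ⧸ L) * (x : G ⧸ L)⁻¹ * (y : G ⧸ L)⁻¹ = 1
      rw [h5]
      group
    have hcosL : ∀ g : G, ∃ x ∈ Subgroup.centralizer (Q : Set G), g⁻¹ * x ∈ L := by
      intro g
      obtain ⟨x, hx, hxg⟩ := hcos g
      exact ⟨x, hx, hNL hxg⟩
    obtain ⟨β, hβ, hmem⟩ := exists_twist_mem hM hQ hQi L hab (by rw [hLi]; exact hpq) hcosL χL hχL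
      ⟨χ₀, hχ₀⟩ hχ₀L
    refine ⟨_, hmem, fun n => ?_⟩
    rw [mulHom_apply, hβ n (hNL n.2), Units.val_one, mul_one]
    have h1 := hχ₀L ⟨(n : G), hNL n.2⟩
    have h2 := hχLθ ⟨⟨(n : G), hNL n.2⟩, n.2⟩
    exact h1.trans h2

end Cfsg.Agent.H700.PrinExt
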